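import Mathlib
import Cfsg.Agent.Lib.Reg.Metacyclic
import Cfsg.Agent.Lib.Reg.IterComm
import Cfsg.Agent.Lib.PGrp.MaxClass

/-!
# Automorphisms of order `p` of metacyclic `p`-groups (Topic Reg)
-/

set_option autoImplicit false

open scoped commutatorElement

namespace Cfsg.Agent.Reg

open Subgroup

variable {G : Type*} [Group G]

theorem isMetacyclic_of_le {H L : Subgroup G} (h : Cfsg.IsMetacyclic L) (hle : H ≤ L) :
    Cfsg.IsMetacyclic H :=
  isMetacyclic_of_surjective (isMetacyclic_subgroup h (H.subgroupOf L))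
    (subgroupOfEquivOfLe hle).toMonoidHom (subgroupOfEquivOfLe hle).surjective

instance PowRegOn.omega_normal [Finite G] {q : ℕ} {H : Subgroup G} [Group.IsNilpotent H]
    [hn : H.Normal] (hH : PowRegOn q H) : hH.omega.Normal :=
  ⟨fun x hx g => ⟨hn.conj_mem x hx.1 g, by rw [conj_pow, hx.2, mul_one, mul_inv_cancel]⟩⟩

/-- If `t` and a conjugate `v t` have order `p` and `⁅t, v⁆` is central of order `p` modulo `K`,
then `v ^ p ∈ K`. -/
theorem pow_mem_of_mul_pow_eq_one {p : ℕ} (hp : Odd p) (K : Subgroup G) [K.Normal] {t v : G}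
    (ht : t ^ p = 1) (hvt : (v * t) ^ p = 1) (h1 : ⁅⁅t, v⁆, v⁆ ∈ K) (h2 : ⁅⁅t, v⁆, t⁆ ∈ K)
    (h3 : ⁅t, v⁆ ^ p ∈ K) : v ^ p ∈ K := by
  set f := QuotientGroup.mk' K
  have hf : ∀ x, f x = 1 ↔ x ∈ K := fun x => QuotientGroup.eq_one_iff x
  rw [← hf] at h1 h2 h3 ⊢
  simp only [map_commutatorElement, map_pow, commutatorElement_eq_one_iff_commute] at h1 h2 h3 ⊢
  have := PGrp.mul_pow_of_odd hp h1 h2 h3
  rw [← map_mul, ← map_pow, hvt, ← map_pow f t, ht, map_one, mul_one] at this
  exact this.symm

variable [Finite G] {p : ℕ} [hp : Fact p.Prime]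

theorem iterCommutator_le_of_card_lt (hG : IsPGroup p G) {T K : Subgroup G} [T.Normal] [K.Normal]
    (hTK : T ≤ K) {j : ℕ} (h : Nat.card K < Nat.card T * p ^ (j + 1)) :
    Cfsg.iterCommutator K ⊤ j ≤ T := by
  by_contra h1
  exact (card_mul_pow_le_of_iterCommutator_not_le hG T j K hTK h1).not_gt h

/-- A normal subgroup of order at most `p ^ 2` lies in the second centre. -/
theorem commutator_mem_center_of_card_le_sq (hG : IsPGroup p G) {E : Subgroup G} [E.Normal]
    (hE : Nat.card E ≤ p ^ 2) {x : G} (hx : x ∈ E) (g : G) : ⁅x, g⁆ ∈ center G := by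
  have h1 : Cfsg.iterCommutator E ⊤ 2 ≤ ⊥ := iterCommutator_le_of_card_lt hG bot_le
    (by rw [card_bot, one_mul]; exact hE.trans_lt (Nat.pow_lt_pow_right hp.out.one_lt (by omega)))
  refine mem_center_iff.mpr fun y => (commutatorElement_eq_one_iff_mul_comm.mp (h1 ?_)).symm
  exact commutator_mem_commutator (commutator_mem_commutator hx (mem_top g)) (mem_top y)

/-- A normal subgroup of order at most `p ^ 2` is centralized by the derived subgroup. -/
theorem commute_of_card_le_sq (hG : IsPGroup p G) {E : Subgroup G} [E.Normal]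
    (hE : Nat.card E ≤ p ^ 2) {x : G} (hx : x ∈ E) {c : G} (hc : c ∈ commutator G) :
    Commute x c := by
  have h1 : Cfsg.iterCommutator E ⊤ 2 ≤ ⊥ := iterCommutator_le_of_card_lt hG bot_le
    (by rw [card_bot, one_mul]; exact hE.trans_lt (Nat.pow_lt_pow_right hp.out.one_lt (by omega)))
  exact commutatorElement_eq_one_iff_commute.mp (h1
    (commutator_lowerCentralSeries_le_iterCommutator E ⊤ 1 (commutator_mem_commutator hx hc)))

theorem powRegOn_of_isMetacyclic' (hp2 : p ≠ 2) {L : Subgroup G} (hL : IsPGroup p L)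
    (h : Cfsg.IsMetacyclic L) (n : ℕ) : PowRegOn (p ^ n) L := by
  simpa [← MonoidHom.range_eq_map] using (powRegOn_of_isMetacyclic hp2 hL h n).map L.subtype

theorem card_omega_le_of_isMetacyclic {L : Subgroup G} [Group.IsNilpotent L]
    (h : Cfsg.IsMetacyclic L) {q : ℕ} (hq : q ≠ 0) (hr : PowRegOn q L) :
    Nat.card hr.omega ≤ q ^ 2 :=
  card_le_sq_of_isMetacyclic (isMetacyclic_of_le h hr.omega_le) hq fun g => Subtype.ext g.2.2

/-- In a metacyclic `p`-group (`p` odd) without cyclic subgroup of index `p`, `Ω₁` has order `p²`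
and consists of `p`-th powers. -/
theorem omega_of_isMetacyclic (hp2 : p ≠ 2) {L : Subgroup G} (hL : IsPGroup p L)
    [Group.IsNilpotent L] (h : Cfsg.IsMetacyclic L) (hL1 : L ≠ ⊥)
    (hnc : ∀ C ≤ L, IsCyclic C → C.relIndex L ≠ p) (hr : PowRegOn p L) :
    Nat.card hr.omega = p ^ 2 ∧ hr.omega ≤ powClosure p L := by
  have h1 := card_omega_le_of_isMetacyclic h hp.out.ne_zero hr
  have h2 := hr.card_omega_mul_card_powClosure
  have hp1 := hp.out.one_lt
  have h3 : ¬ IsCyclic (powClosure p L) := by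
    intro hc
    -- a cyclic subgroup of index at most `p`
    obtain ⟨C, hCL, hC, hC'⟩ : ∃ C ≤ L, IsCyclic C ∧ Nat.card L ≤ Nat.card C * p := by
      by_cases hb : powClosure p L = ⊥
      · obtain ⟨x, hx, hx'⟩ := PGrp.exists_orderOf_eq_prime_of_ne_bot hL hL1
        refine ⟨zpowers x, zpowers_le.mpr hx, inferInstance, ?_⟩
        rw [hb, card_bot, mul_one] at h2
        rw [Nat.card_zpowers, hx', ← h2, ← sq]
        exact h1
      · obtain ⟨c, hc'⟩ := (Subgroup.isCyclic_iff_exists_zpowers_eq_top _).mp hc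
        obtain ⟨x, hx, hcx⟩ := hr.exists_pow_eq c (hc' ▸ mem_zpowers c)
        refine ⟨zpowers x, zpowers_le.mpr hx, inferInstance, ?_⟩
        have h4 := PGrp.mul_card_dvd_of_lt (H := zpowers c) (K := zpowers x)
          (hL.to_le (zpowers_le.mpr hx)) (lt_of_le_of_ne
            (zpowers_le.mpr (hcx ▸ pow_mem (mem_zpowers x) p)) fun he => hb ?_)
        · rw [← h2, ← hc']
          calc _ ≤ p ^ 2 * Nat.card (zpowers c) := Nat.mul_le_mul_right _ h1
            _ = Nat.card (zpowers c) * p * p := by ring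
            _ ≤ _ := Nat.mul_le_mul_right _ (Nat.le_of_dvd Nat.card_pos h4)
        · obtain ⟨k, hk⟩ := IsPGroup.iff_orderOf.mp hL ⟨x, hx⟩
          rw [orderOf_mk] at hk
          have h5 := congrArg (fun K : Subgroup G => Nat.card K) he
          simp only [Nat.card_zpowers] at h5
          rcases k with _ | k
          · rw [← hc', hcx, orderOf_eq_one_iff.mp hk, one_pow, zpowers_one_eq_bot]
          · rw [hcx, orderOf_pow_of_dvd hp.out.ne_zero (hk ▸ dvd_pow_self p k.succ_ne_zero), hk,
              pow_succ, Nat.mul_div_cancel _ hp.out.pos] at h5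
            exact absurd (Nat.mul_eq_left (by positivity) |>.mp h5.symm) hp1.ne'
    obtain ⟨k, hk⟩ := PGrp.exists_relIndex_eq_pow (H := C) hL
    rw [← PGrp.card_mul_relIndex hCL, hk] at hC'
    have h4 : k ≤ 1 := (Nat.pow_le_pow_iff_right hp1).mp
      (by simpa using Nat.le_of_mul_le_mul_left hC' Nat.card_pos)
    rcases Nat.le_one_iff_eq_zero_or_eq_one.mp h4 with rfl | rfl
    · rw [pow_zero, relIndex_eq_one] at hk
      obtain rfl := le_antisymm hCL hk
      have : Nontrivial C := (nontrivial_iff_ne_bot C).mpr hL1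
      obtain ⟨M, -, hM, -⟩ := PGrp.exists_le_index_eq hL (H := ⊥) bot_ne_top
      refine hnc (M.map C.subtype) (map_subtype_le M) (isCyclic_of_le (map_subtype_le M)) ?_
      rwa [relIndex, subgroupOf, comap_map_eq_self_of_injective C.subtype_injective]
    · exact hnc C hCL hC (by rw [hk, pow_one])
  obtain ⟨E, -, hE, hE'⟩ := PGrp.exists_normal_elemAb_of_odd (hL.to_le (powClosure_le p L)) hp2 h3
  have h4 : E.map (powClosure p L).subtype ≤ hr.omega := by
    rintro _ ⟨x, hx, rfl⟩
    exact ⟨powClosure_le p L x.2, congrArg Subtype.val (hE.2 x hx)⟩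
  have h5 : Nat.card (E.map (powClosure p L).subtype) = p ^ 2 := by
    rw [card_map_of_injective (subtype_injective _), hE']
  have h6 := eq_of_le_of_card_ge h4 (h5 ▸ h1)
  exact ⟨h6 ▸ h5, h6 ▸ map_subtype_le E⟩

/-- If `t` of order `p` centralizes `Ω₁(L)` for a regular normal subgroup `L` with `|Ω₁(L)| ≤ p²`,
then `[L, t] ≤ Ω₁(L)`. -/
theorem commutator_pow_eq_one_of_centralizes_omega (hp2 : p ≠ 2) (hG : IsPGroup p G)
    {L : Subgroup G} [L.Normal] [Group.IsNilpotent L] (hr : ∀ n, PowRegOn (p ^ n) L)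
    (hΩ : Nat.card (hr 1).omega ≤ p ^ 2) {t : G} (ht : t ^ p = 1)
    (hc : ∀ x ∈ L, x ^ p = 1 → Commute t x) {x : G} (hx : x ∈ L) : ⁅x, t⁆ ^ p = 1 := by
  have hL : ∀ u ∈ L, ⁅t, u⁆ ∈ L := fun u hu =>
    commutator_le_right ⊤ L (commutator_mem_commutator (mem_top t) hu)
  have h1 : ∀ i, ∀ u ∈ L, u ^ p ^ (i + 1) = 1 → ⁅t, u⁆ ^ p ^ i = 1 := fun i u hu hu' => by
    rw [commutatorElement_def, ← (hr i).pow_eq_pow_iff (Normal.conj_mem inferInstance u hu t) hu,
      conj_pow, (hc _ (pow_mem hu _) (by rw [← pow_mul, ← pow_succ, hu'])).eq,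
      mul_inv_cancel_right]
  set v := ⁅x, t⁆ with hv
  have hvL : v ∈ L := commutator_le_left L ⊤ (commutator_mem_commutator hx (mem_top t))
  have hvt : (v * t) ^ p = 1 := by
    rw [hv, commutatorElement_def, inv_mul_cancel_right, conj_pow, ht, mul_one, mul_inv_cancel]
  have h2 : ∀ j, v ^ p ^ (j + 2) = 1 → v ^ p ^ (j + 1) = 1 := fun j hj => by
    have h3 := h1 _ v hvL hj
    have h4 := pow_mem_of_mul_pow_eq_one (hp.out.odd_of_ne_two hp2) (hr j).omega ht hvt
      ⟨commutator_le_right ⊤ L (commutator_mem_commutator (mem_top _) hvL),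
        ((hr j).commute_pow_iff (hL v hvL) hvL).mp (commute_of_card_le_sq hG hΩ
          ⟨pow_mem (hL v hvL) _, by rw [pow_one, ← pow_mul, ← pow_succ, h3]⟩
          (commutator_mem_commutator (mem_top x) (mem_top t)))⟩
      (by rw [← commutatorElement_inv]; exact inv_mem ⟨hL _ (hL v hvL), h1 _ _ (hL v hvL) h3⟩)
      ⟨pow_mem (hL v hvL) _, by rw [← pow_mul, ← pow_succ', h3]⟩
    rw [pow_succ', pow_mul]
    exact h4.2
  obtain ⟨k, hk⟩ := hG v
  have h3 : ∀ j, v ^ p ^ (j + 1) = 1 → v ^ p = 1 := by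
    intro j
    induction j with
    | zero => simp
    | succ j ih => exact fun h => ih (h2 j h)
  exact h3 k (by rw [pow_succ, pow_mul, hk, one_pow])

/-- The situation of an automorphism of order `p` of a metacyclic group. -/
theorem metacyclic_aut_iff (hp2 : p ≠ 2) {m : ℕ} (hG : Nat.card G = p ^ (m + 2))
    {L : Subgroup G} [L.Normal] (hLi : L.index = p) (h : Cfsg.IsMetacyclic L)
    (hnc : ∀ C ≤ L, IsCyclic C → C.relIndex L ≠ p) {t : G} (ht : t ^ p = 1)
    (hLt : L ⊔ zpowers t = ⊤) :
    (∃ x ∈ L, x ^ p = 1 ∧ ¬ Commute t x) ↔ (p = 3 ∧ Group.nilpotencyClass G = m + 1) := by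
  have hP : IsPGroup p G := IsPGroup.of_card hG
  have hL := hP.to_subgroup L
  have := hL.isNilpotent
  have hp1 := hp.out.one_lt
  have hodd := hp.out.odd_of_ne_two hp2
  have hL1 : L ≠ ⊥ := by
    rintro rfl
    rw [index_bot, hG] at hLi
    have := Nat.pow_right_injective hp1 (hLi.trans (pow_one p).symm)
    omega
  have hr := powRegOn_of_isMetacyclic' hp2 hL h
  have hr1 : PowRegOn p L := by simpa using hr 1
  obtain ⟨hΩ, hΩ'⟩ := omega_of_isMetacyclic hp2 hL h hL1 hnc hr1
  have hΩ2 := card_omega_le_of_isMetacyclic h (pow_ne_zero 2 hp.out.ne_zero) (hr 2)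
  constructor
  · rintro ⟨x, hx, hxp, hxt⟩
    obtain ⟨u, hu, rfl⟩ := hr1.exists_pow_eq x (hΩ' ⟨hx, hxp⟩)
    have huN : u ∈ (hr 2).omega := ⟨hu, by rw [sq, pow_mul, hxp]⟩
    constructor
    · by_contra hp3
      have h5 : 5 ≤ p := hp.out.five_le_of_ne_two_of_ne_three hp2 hp3
      have h1 : Nat.card ↥((hr 2).omega ⊔ zpowers t) ≤ p ^ p := by
        have h2 := PGrp.card_sup_mul_card_inf (zpowers t) (hr 2).omega
        rw [sup_comm]
        calc _ ≤ _ := Nat.le_mul_of_pos_right _ Nat.card_pos
          _ = _ := h2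
          _ ≤ p * (p ^ 2) ^ 2 := Nat.mul_le_mul
            (by rw [Nat.card_zpowers]; exact orderOf_le_of_pow_eq_one hp.out.pos ht) hΩ2
          _ = p ^ 5 := by ring
          _ ≤ p ^ p := Nat.pow_le_pow_right hp.out.pos h5
      have h2 := PGrp.powRegOn_of_card_le' (hP.to_subgroup _) h1
      have := (hP.to_subgroup ((hr 2).omega ⊔ zpowers t)).isNilpotent
      have h3 := (h2.commute_pow_iff (mem_sup_right (mem_zpowers t)) (mem_sup_left huN)).mp
        (by rw [ht]; exact Commute.one_left u)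
      refine hxt ((h2.commute_pow_iff (mem_sup_left huN) (mem_sup_right (mem_zpowers t))).mpr
        ?_).symm
      rw [← commutatorElement_inv, inv_pow, h3, inv_one]
    · refine PGrp.nilpotencyClass_eq_of_card_centralizer_le m hG t ?_
      set C := centralizer ({t} : Set G) with hC
      have hmem : ∀ g, g ∈ C ↔ Commute t g := fun g => by
        rw [hC, mem_centralizer_singleton_iff]; exact ⟨fun h => h.symm, fun h => h.symm⟩
      have h1 : Nat.card ↥(hr1.omega ⊓ C) ≤ p := by
        have h2 := PGrp.mul_card_dvd_of_lt (H := hr1.omega ⊓ C) (hP.to_subgroup _)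
          (inf_lt_left.mpr fun h3 => hxt ((hmem _).mp (h3 ⟨hx, hxp⟩)))
        rw [hΩ, sq, Nat.mul_dvd_mul_iff_right hp.out.pos] at h2
        exact Nat.le_of_dvd hp.out.pos h2
      have h2 : L ⊓ C ≤ hr1.omega ⊓ C := by
        intro c hc
        refine ⟨⟨hc.1, ?_⟩, hc.2⟩
        by_contra hcp
        obtain ⟨j, hj, hj'⟩ := PGrp.exists_pow_not_mem_pow_mem hP (U := ⊥) hcp
        set d := c ^ p ^ j with hd
        have hd' : (c ^ p) ^ p ^ j = d ^ p := by rw [← pow_mul, mul_comm, pow_mul]
        rw [hd', mem_bot] at hj hj'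
        have hdL : d ∈ L := pow_mem hc.1 _
        have hdC : d ∈ C := pow_mem hc.2 _
        have h3 : zpowers (d ^ p) = hr1.omega ⊓ C := eq_of_le_of_card_ge
          (zpowers_le.mpr ⟨⟨pow_mem hdL _, hj'⟩, pow_mem hdC _⟩)
          (by rwa [Nat.card_zpowers, orderOf_eq_prime hj' hj])
        set v := ⁅u⁻¹, t⁆ with hv
        have hvL : v ∈ L :=
          commutator_le_left L ⊤ (commutator_mem_commutator (inv_mem hu) (mem_top t))
        have hvG : v ∈ commutator G := commutator_mem_commutator (mem_top _) (mem_top t)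
        have hvt : (v * t) ^ p = 1 := by
          rw [hv, commutatorElement_def, inv_mul_cancel_right, conj_pow, ht, mul_one,
            mul_inv_cancel]
        have h4 : Cfsg.iterCommutator (hr 2).omega ⊤ 2 ≤ hr1.omega :=
          iterCommutator_le_of_card_lt hP (T := hr1.omega) (K := (hr 2).omega)
            (fun y hy => ⟨hy.1, by rw [sq, pow_mul, hy.2, one_pow]⟩) (hΩ2.trans_lt (by
              rw [hΩ, ← pow_mul, ← pow_add]; exact Nat.pow_lt_pow_right hp1 (by omega)))
        have h5 : ⁅t, v⁆ ∈ hr1.omega := by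
          rw [← commutatorElement_inv]
          exact inv_mem (h4 (commutator_mem_commutator
            (commutator_mem_commutator (inv_mem huN) (mem_top t)) (mem_top t)))
        have h6 : v ^ p ∈ hr1.omega ⊓ C := by
          refine ⟨⟨pow_mem hvL _, ?_⟩, (hmem _).mpr ?_⟩
          · have : v ∈ (hr 2).omega :=
              commutator_le_left _ ⊤ (commutator_mem_commutator (inv_mem huN) (mem_top t))
            rw [← pow_mul, ← sq, this.2]
          · have := (hr1.pow_eq_pow_iff (Normal.conj_mem inferInstance v hvL t) hvL).mpr h5.2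
            rw [conj_pow, mul_inv_eq_iff_eq_mul] at this
            exact this
        rw [← h3] at h6
        obtain ⟨i, hi⟩ := mem_zpowers_iff.mp h6
        have h7 : (d ^ i)⁻¹ * v ∈ hr1.omega := ⟨mul_mem (inv_mem (zpow_mem hdL i)) hvL,
          (hr1.pow_eq_pow_iff' (zpow_mem hdL i) hvL).mp (by
            rw [← hi, ← zpow_natCast, ← zpow_natCast, ← zpow_mul, ← zpow_mul, mul_comm])⟩
        have h8 : ⁅t, v⁆ ∈ center G := by
          have h9 := commutator_mem_center_of_card_le_sq hP hΩ.le h7 t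
          have h10 : ⁅t, v⁆ = d ^ i * ⁅(d ^ i)⁻¹ * v, t⁆⁻¹ * (d ^ i)⁻¹ := by
            have := (((hmem _).mp hdC).zpow_right i).eq
            simp only [commutatorElement_def, mul_inv_rev, inv_inv, ← mul_assoc, ← this]
            group
          rw [h10]
          exact Normal.conj_mem inferInstance _ (inv_mem h9) _
        have h9 := pow_mem_of_mul_pow_eq_one hodd ⊥ ht hvt
          (commutatorElement_eq_one_iff_commute.mpr (PGrp.commute_of_mem_center h8 _))
          (commutatorElement_eq_one_iff_commute.mpr (PGrp.commute_of_mem_center h8 _)) h5.2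
        have h10 := (hr1.pow_eq_pow_iff' hu (Normal.conj_mem inferInstance u hu t)).mpr (by
          simpa [hv, commutatorElement_def, mul_assoc] using h9)
        rw [conj_pow, eq_mul_inv_iff_mul_eq] at h10
        exact hxt h10.symm
      calc Nat.card C = Nat.card ↥(L ⊓ C) * L.relIndex C := (PGrp.card_inf_mul_relIndex L C).symm
        _ ≤ p * p := Nat.mul_le_mul ((card_le_of_le h2).trans h1)
          (Nat.le_of_dvd hp.out.pos (hLi ▸ relIndex_dvd_index_of_normal L C))
        _ = p ^ 2 := (sq p).symm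
  · rintro ⟨-, hc⟩
    by_contra hne
    push Not at hne
    have h1 := PGrp.index_commutator_of_maxClass hG hc
    have h2 : (powClosure p L).relIndex L = p ^ 2 := by
      have h3 := PGrp.card_mul_relIndex (powClosure_le p L)
      rw [← hr1.card_omega_mul_card_powClosure, hΩ, mul_comm] at h3
      exact Nat.eq_of_mul_eq_mul_right Nat.card_pos h3
    have h3 : commutator G ≤ powClosure p L := by
      have hn : ∀ X : Subgroup G, X ≤ normalizer (powClosure p L : Set G) := fun X => by
        rw [normalizer_eq_top]; exact le_top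
      have h4 : ⁅L, zpowers t⁆ ≤ powClosure p L := by
        rw [zpowers_eq_closure, commutator_comm]
        refine commutator_closure_left_le (fun s _ => hn ⊤ (mem_top s)) ?_
        rintro _ rfl x hx
        rw [← commutatorElement_inv]
        refine inv_mem (hΩ' ⟨commutator_le_left L ⊤ (commutator_mem_commutator hx (mem_top _)), ?_⟩)
        exact commutator_pow_eq_one_of_centralizes_omega hp2 hP hr (by simpa using hΩ.le) ht hne hx
      have h5 : ⁅L, L⁆ ≤ powClosure p L := by
        rw [commutator_le_iff_map_eq_bot]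
        refine lowerCentralSeries_eq_bot_of_card_le (hL.map _) (k := 1) le_rfl (le_of_eq ?_)
        have h6 := PGrp.card_map_mk'_mul (powClosure p L) L
        rw [sup_eq_left.mpr (powClosure_le p L), ← hr1.card_omega_mul_card_powClosure, hΩ] at h6
        exact Nat.eq_of_mul_eq_mul_right Nat.card_pos h6
      rw [_root_.commutator_def, ← hLt]
      refine commutator_sup_left_le (hn _) (hn _) (commutator_sup_right_le (hn _) (hn _) h5 h4)
        (commutator_sup_right_le (hn _) (hn _) (by rwa [commutator_comm]) ?_)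
      rw [commutator_self_eq_bot_iff.mpr inferInstance]
      exact bot_le
    have h4 := Nat.le_of_dvd (Nat.pos_of_ne_zero index_ne_zero_of_finite) (index_dvd_of_le h3)
    rw [h1, ← relIndex_mul_index (powClosure_le p L), h2, hLi] at h4
    have := Nat.le_of_mul_le_mul_left (h4.trans (mul_one _).ge) (by positivity)
    omega

end Cfsg.Agent.Reg
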