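import Cfsg.Agent.Lib.PGrp.Count
import Cfsg.Agent.Lib.PGrp.RankOne
import Cfsg.Agent.Lib.Reg.MetaAut

/-!
Frobenius' theorem on the number of solutions of `x ^ n ∈ Y`, by Brauer's lemma; Miller's theorem
on elements of order `p ^ s` in noncyclic `p`-groups.
-/

namespace Cfsg.Agent.Reg

open Subgroup
open scoped commutatorElement

variable {G : Type*} [Group G] [Finite G]

theorem dvd_card_of_fibers {α β : Type*} [Finite α] (f : α → β) {d : ℕ}
    (h : ∀ a, d ∣ Nat.card {a' // f a' = f a}) : d ∣ Nat.card α := by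
  have := Fintype.ofFinite (Set.range f)
  rw [PGrp.card_eq_sum_card_fiber (Set.rangeFactorization f)]
  refine Finset.dvd_sum fun b _ => ?_
  obtain ⟨_, a, rfl⟩ := b
  simpa [Subtype.ext_iff] using h a

/-- Brauer's lemma. -/
theorem exists_mul_pow_card_eq_conj {U : Subgroup G} {x u : G} (hx : ∀ w ∈ U, x * w * x⁻¹ ∈ U)
    (hu : u ∈ U) : ∃ w ∈ U, (u * x) ^ Nat.card U = w * x ^ Nat.card U * w⁻¹ := by
  classical
  let π : Equiv.Perm U := Equiv.ofBijective
    (fun w => ⟨u * (x * w * x⁻¹), U.mul_mem hu (hx w w.2)⟩)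
    (Finite.injective_iff_bijective.1 fun a b h => Subtype.ext (by
      simpa using congrArg Subtype.val h))
  have hπ : ∀ (j : ℕ) (w : U), ((π ^ j) w : G) = (u * x) ^ j * w * (x ^ j)⁻¹ := by
    intro j w
    induction j with
    | zero => simp
    | succ j ih =>
      rw [pow_succ', Equiv.Perm.mul_apply]
      change u * (x * ((π ^ j) w : G) * x⁻¹) = _
      rw [ih, pow_succ' (u * x), pow_succ' x]
      group
  have hex : ∃ l, 0 < l ∧ ∃ w, (π ^ l) w = w := ⟨orderOf π, orderOf_pos π, 1, by simp⟩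
  obtain ⟨hl0, w₀, hw₀⟩ := Nat.find_spec hex
  set l := Nat.find hex with hl
  let σ : Equiv.Perm {w // (π ^ l) w = w} := π.subtypePerm fun w => by
    rw [← Equiv.Perm.mul_apply, ← pow_succ, pow_succ', Equiv.Perm.mul_apply, π.injective.eq_iff]
  have hσ : ∀ (j : ℕ) w, ((σ ^ j) w).1 = (π ^ j) w := fun j w => by
    rw [Equiv.Perm.subtypePerm_pow]; rfl
  have hfree : ∀ w : {w // (π ^ l) w = w}, MulAction.stabilizer (zpowers σ) w = ⊥ := by
    intro w
    rw [eq_bot_iff]
    rintro ⟨g, hg⟩ hgw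
    obtain ⟨j, rfl⟩ := mem_powers_iff_mem_zpowers.2 hg
    have h1 : (π ^ j) w = w := (hσ j w).symm.trans (congrArg Subtype.val hgw)
    have h2 : (π ^ (j % l)) w = w := by
      rw [← Nat.mod_add_div j l, pow_add, Equiv.Perm.mul_apply, pow_mul,
        Equiv.Perm.pow_apply_eq_self_of_apply_eq_self w.2] at h1
      exact h1
    have h3 : j % l = 0 := by
      by_contra h
      exact Nat.find_min hex (Nat.mod_lt j hl0) ⟨Nat.pos_of_ne_zero h, _, h2⟩
    obtain ⟨c, rfl⟩ := Nat.dvd_of_mod_eq_zero h3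
    refine Subtype.ext (Equiv.ext fun v => Subtype.ext ?_)
    change ((σ ^ (l * c)) v).1 = v
    rw [hσ, pow_mul, Equiv.Perm.pow_apply_eq_self_of_apply_eq_self v.2]
  have h1 : orderOf σ ∣ Nat.card {w // (π ^ l) w = w} := by
    rw [Nat.card_congr (MulAction.selfEquivOrbitsQuotientProd hfree), Nat.card_prod,
      Nat.card_zpowers]
    exact dvd_mul_left _ _
  have h0 : (u * x) ^ l = w₀ * x ^ l * (w₀ : G)⁻¹ := by
    have := hπ l w₀
    rw [hw₀] at this
    rw [eq_mul_inv_iff_mul_eq] at this ⊢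
    exact this.symm
  have h2 : Nat.card {w // (π ^ l) w = w} = Nat.card ↥(U ⊓ centralizer {x ^ l}) := by
    have key : ∀ w : U, (π ^ l) w = w ↔ (w₀ : G)⁻¹ * w ∈ centralizer {x ^ l} := by
      intro w
      rw [Subtype.ext_iff, hπ, h0, mem_centralizer_singleton_iff]
      constructor
      · intro h
        calc _ = (w₀ : G)⁻¹ * (w₀ * x ^ l * (w₀ : G)⁻¹ * w * (x ^ l)⁻¹) * x ^ l := by rw [h]
          _ = _ := by group
      · intro h
        calc _ = w₀ * (x ^ l * ((w₀ : G)⁻¹ * w)) * (x ^ l)⁻¹ := by group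
          _ = _ := by rw [← h]; group
    exact Nat.card_congr
      { toFun := fun w => ⟨(w₀ : G)⁻¹ * w.1, U.mul_mem (U.inv_mem w₀.2) w.1.2, (key _).1 w.2⟩
        invFun := fun c => ⟨⟨w₀ * c, U.mul_mem w₀.2 c.2.1⟩, (key _).2 (by simpa using c.2.2)⟩
        left_inv := fun w => by ext; simp
        right_inv := fun c => by ext; simp }
  have h3 : σ ^ Nat.card U = 1 :=
    orderOf_dvd_iff_pow_eq_one.1 (h1.trans (h2 ▸ card_dvd_of_le inf_le_left))
  have h4 := hσ (Nat.card U) ⟨w₀, hw₀⟩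
  rw [h3] at h4
  have h5 := hπ (Nat.card U) w₀
  rw [← h4] at h5
  refine ⟨w₀, w₀.2, ?_⟩
  change (w₀ : G) = _ at h5
  rw [eq_mul_inv_iff_mul_eq] at h5 ⊢
  exact h5.symm

/-- The largest subgroup of `H` mapped into itself by conjugation with `x`. -/
def coreAt (H : Subgroup G) (x : G) : Subgroup G where
  carrier := {u | ∀ i : ℕ, x ^ i * u * (x ^ i)⁻¹ ∈ H}
  one_mem' := fun i => by simp
  mul_mem' := fun {a b} ha hb i => by
    have := H.mul_mem (ha i) (hb i)
    simpa [mul_assoc] using this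
  inv_mem' := fun {a} ha i => by
    have := H.inv_mem (ha i)
    simpa [mul_assoc] using this

section
omit [Finite G]
variable {H : Subgroup G} {x : G}

theorem coreAt_le : coreAt H x ≤ H := fun u hu => by simpa using hu 0

theorem conj_mem_coreAt {u : G} (hu : u ∈ coreAt H x) : x * u * x⁻¹ ∈ coreAt H x := fun i => by
  have := hu (i + 1)
  rw [pow_succ] at this
  simpa [mul_assoc] using this

theorem le_coreAt {K : Subgroup G} (hK : K ≤ H) (hx : ∀ w ∈ K, x * w * x⁻¹ ∈ K) :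
    K ≤ coreAt H x := fun u hu i => hK (by
  induction i with
  | zero => simpa using hu
  | succ i ih =>
    have := hx _ ih
    rw [pow_succ']
    simpa [mul_assoc] using this)

theorem coreAt_le_coreAt_mul {u : G} (hu : u ∈ coreAt H x) : coreAt H x ≤ coreAt H (u * x) :=
  le_coreAt coreAt_le fun w hw => by
    have := mul_mem (mul_mem hu (conj_mem_coreAt hw)) (inv_mem hu)
    simpa [mul_assoc] using this

theorem coreAt_mul {u : G} (hu : u ∈ coreAt H x) : coreAt H (u * x) = coreAt H x := by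
  refine le_antisymm ?_ (coreAt_le_coreAt_mul hu)
  have := coreAt_le_coreAt_mul (inv_mem (coreAt_le_coreAt_mul hu hu))
  rwa [inv_mul_cancel_left] at this

theorem conj_mem_coreAt_conj {h v : G} (hh : h ∈ H) (hv : v ∈ coreAt H x) :
    h * v * h⁻¹ ∈ coreAt H (h * x * h⁻¹) := fun i => by
  have := H.mul_mem (H.mul_mem hh (hv i)) (H.inv_mem hh)
  rw [conj_pow]
  simpa [mul_assoc] using this

theorem mem_coreAt_of_conj {h u u' : G} (hh : h ∈ H) (hu : u ∈ coreAt H x) (hu' : u' ∈ coreAt H x)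
    (e : h * (u * x) * h⁻¹ = u' * x) : h ∈ coreAt H x := by
  have h1 : coreAt H x ⊔ zpowers h ≤ (coreAt H x ⊔ zpowers h).comap (MulAut.conj x).toMonoidHom := by
    refine sup_le (fun w hw => mem_sup_left (conj_mem_coreAt hw)) (zpowers_le.2 ?_)
    have h2 : x * h * x⁻¹ = u'⁻¹ * h * u := by
      calc _ = u'⁻¹ * (u' * x) * h * x⁻¹ := by group
        _ = _ := by rw [← e]; group
    change x * h * x⁻¹ ∈ coreAt H x ⊔ zpowers h
    rw [h2]
    exact mul_mem (mul_mem (mem_sup_left (inv_mem hu')) (mem_sup_right (mem_zpowers h)))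
      (mem_sup_left hu)
  exact le_coreAt (sup_le coreAt_le (zpowers_le.2 hh)) (fun w hw => h1 hw)
    (mem_sup_right (mem_zpowers h))

/-- The equivalence relation whose classes have exactly `|H|` elements. -/
def frobSetoid (H : Subgroup G) : Setoid G where
  r y x := ∃ h ∈ H, ∃ u ∈ coreAt H x, y = h * (u * x) * h⁻¹
  iseqv :=
    { refl := fun x => ⟨1, H.one_mem, 1, one_mem _, by simp⟩
      symm := by
        rintro _ x ⟨h, hh, u, hu, rfl⟩
        refine ⟨h⁻¹, H.inv_mem hh, h * u⁻¹ * h⁻¹, conj_mem_coreAt_conj hh ?_, by group⟩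
        rw [coreAt_mul hu]
        exact inv_mem hu
      trans := by
        rintro _ _ x ⟨h', hh', v, hv, rfl⟩ ⟨h, hh, u, hu, rfl⟩
        have := conj_mem_coreAt_conj (H.inv_mem hh) hv
        rw [show h⁻¹ * (h * (u * x) * h⁻¹) * h⁻¹⁻¹ = u * x by group, coreAt_mul hu] at this
        exact ⟨h' * h, H.mul_mem hh' hh, _, mul_mem this hu, by group⟩ }

theorem card_frobSetoid (H : Subgroup G) (x : G) :
    Nat.card {y // frobSetoid H y x} = Nat.card H := by
  let f : (H ⧸ (coreAt H x).subgroupOf H) × coreAt H x → {y // frobSetoid H y x} :=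
    fun q => ⟨q.1.out * (q.2 * x) * (q.1.out : G)⁻¹, _, q.1.out.2, _, q.2.2, rfl⟩
  have hf : Function.Bijective f := by
    constructor
    · rintro ⟨q, u⟩ ⟨q', u'⟩ h
      have h1 : (q.out : G) * (u * x) * (q.out : G)⁻¹ = q'.out * (u' * x) * (q'.out : G)⁻¹ :=
        congrArg Subtype.val h
      have h2 : q' = q := by
        rw [← q.out_eq', ← q'.out_eq', QuotientGroup.eq, mem_subgroupOf]
        refine mem_coreAt_of_conj (q'.out⁻¹ * q.out).2 u.2 u'.2 ?_
        calc _ = (q'.out : G)⁻¹ * ((q.out : G) * (u * x) * (q.out : G)⁻¹) * q'.out := by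
              push_cast; group
          _ = _ := by rw [h1]; group
      subst h2
      exact Prod.ext rfl (Subtype.ext (by simpa using h1))
    · rintro ⟨_, h, hh, u, hu, rfl⟩
      obtain ⟨v, hv⟩ := QuotientGroup.mk_out_eq_mul ((coreAt H x).subgroupOf H) ⟨h, hh⟩
      refine ⟨⟨(⟨h, hh⟩ : H), ⟨_, mul_mem (mul_mem (inv_mem v.2) hu) (conj_mem_coreAt v.2)⟩⟩,
        Subtype.ext ?_⟩
      simp only [f, hv]
      push_cast
      simp [mul_assoc]
  rw [← Nat.card_eq_of_bijective f hf, Nat.card_prod, ← Core.card_subgroupOf_of_le coreAt_le,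
    ← card_eq_card_quotient_mul_card_subgroup]

end

theorem card_dvd_card_pow_mem (H : Subgroup G) {n : ℕ} (hn : Nat.card H ∣ n) {Y : G → Prop}
    (hY : ∀ h ∈ H, ∀ y, Y y → Y (h * y * h⁻¹)) : Nat.card H ∣ Nat.card {x // Y (x ^ n)} := by
  refine dvd_card_of_fibers (fun x => Quotient.mk (frobSetoid H) x.1) fun ⟨x, hx⟩ => ?_
  rw [← card_frobSetoid H x]
  suffices key : ∀ y, frobSetoid H y x → Y (y ^ n) from (Nat.card_congr
    { toFun := fun y => ⟨⟨y.1, key _ y.2⟩, Quotient.sound y.2⟩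
      invFun := fun y => ⟨y.1.1, Quotient.exact y.2⟩
      left_inv := fun _ => rfl
      right_inv := fun _ => rfl }).dvd
  rintro _ ⟨h, hh, u, hu, rfl⟩
  obtain ⟨w, hw, e⟩ := exists_mul_pow_card_eq_conj (fun _ => conj_mem_coreAt) hu
  obtain ⟨c, hc⟩ := (card_dvd_of_le (coreAt_le (H := H) (x := x))).trans hn
  rw [conj_pow, hc, pow_mul, e, conj_pow, ← pow_mul, ← hc]
  exact hY _ hh _ (hY _ (coreAt_le hw) _ hx)

/-- Frobenius' theorem. -/
theorem gcd_dvd_card_pow_mem (n : ℕ) {Y : G → Prop} (hY : ∀ h y, Y y → Y (h * y * h⁻¹)) :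
    Nat.gcd n (Nat.card G) ∣ Nat.card {x // Y (x ^ n)} := by
  rw [Nat.dvd_iff_prime_pow_dvd_dvd]
  intro p k hp hk
  have := Fact.mk hp
  obtain ⟨H, hH⟩ := Sylow.exists_subgroup_card_pow_prime p (hk.trans (Nat.gcd_dvd_right _ _))
  rw [← hH] at hk ⊢
  exact card_dvd_card_pow_mem H (hk.trans (Nat.gcd_dvd_left _ _)) fun h _ => hY h

/-- Miller: in a noncyclic `p`-group, `p` odd, the number of elements of order `p ^ s`, `s > 1`,
is a multiple of `p ^ s`. -/
theorem pow_dvd_card_orderOf_eq {p : ℕ} [hp : Fact p.Prime] (hodd : p ≠ 2) (hG : IsPGroup p G)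
    (hc : ¬ IsCyclic G) {s : ℕ} (hs : 1 < s) : p ^ s ∣ Nat.card {x : G // orderOf x = p ^ s} := by
  obtain ⟨E, hEn, hE, hEc⟩ := ((PGrp.isCyclic_or_dqs_or_exists_normal_elemAb hG).resolve_left
    hc).resolve_left fun h => hodd h.1
  obtain ⟨s, rfl⟩ : ∃ t, s = t + 2 := ⟨s - 2, by omega⟩
  have hpow : ∀ e ∈ E, ∀ y : G, (y * e) ^ p = y ^ p := by
    intro e he y
    have h1 : ⁅e, y⁆ ∈ center G := commutator_mem_center_of_card_le_sq hG hEc.le he y
    have h2 : ⁅e, y⁆ ∈ E := by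
      rw [commutatorElement_def, mul_assoc, mul_assoc]
      exact E.mul_mem he (by simpa [mul_assoc] using hEn.conj_mem _ (E.inv_mem he) y)
    rw [PGrp.mul_pow_of_odd (hp.out.odd_of_ne_two hodd) (PGrp.commute_of_mem_center h1 _)
      (PGrp.commute_of_mem_center h1 _) (hE.2 _ h2), hE.2 e he, mul_one]
  have hord : ∀ y : G, ∀ t, orderOf (y ^ p) = p ^ (t + 1) ↔ orderOf y = p ^ (t + 2) := by
    intro y t
    obtain ⟨k, hk⟩ := IsPGroup.iff_orderOf.1 hG y
    rcases k with _ | k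
    · rw [pow_zero, orderOf_eq_one_iff] at hk
      subst hk
      rw [one_pow, orderOf_one]
      exact iff_of_false (Nat.one_lt_pow (by omega) hp.out.one_lt).ne
        (Nat.one_lt_pow (by omega) hp.out.one_lt).ne
    · rw [orderOf_pow_of_dvd hp.out.ne_zero (hk ▸ dvd_pow_self p k.succ_ne_zero), hk, pow_succ,
        Nat.mul_div_cancel _ hp.out.pos, ← pow_succ, Nat.pow_right_inj hp.out.one_lt,
        Nat.pow_right_inj hp.out.one_lt]
      omega
  refine dvd_card_of_fibers (fun x => zpowers x.1 ⊔ E) fun x => ?_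
  obtain ⟨x, hx⟩ := x
  have hle : zpowers (x ^ p) ⊔ E ≤ zpowers x ⊔ E :=
    sup_le_sup_right (zpowers_le.2 (pow_mem (mem_zpowers x) p)) E
  have key : ∀ y : G, (orderOf y = p ^ (s + 2) ∧ zpowers y ⊔ E = zpowers x ⊔ E) ↔
      (y ∈ zpowers x ⊔ E ∧ ¬ y ∈ zpowers (x ^ p) ⊔ E) := by
    intro y
    constructor
    · rintro ⟨h1, h2⟩
      refine ⟨h2 ▸ mem_sup_left (mem_zpowers y), fun h3 => ?_⟩
      obtain ⟨_, ⟨i, rfl⟩, e, he, rfl⟩ := mem_sup_of_normal_right.1 h3
      rw [← hord, hpow e he] at h1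
      have h4 : (((x ^ p) ^ i) ^ p) ^ p ^ s = 1 := by
        rw [← pow_mul, ← zpow_natCast, ← zpow_mul, mul_comm, zpow_mul, zpow_natCast, ← pow_mul,
          show p * (p * p ^ s) = p ^ (s + 2) by ring, ← hx, pow_orderOf_eq_one, one_zpow]
      have h5 := orderOf_dvd_of_pow_eq_one h4
      rw [h1, Nat.pow_dvd_pow_iff_le_right hp.out.one_lt] at h5
      omega
    · rintro ⟨h1, h2⟩
      obtain ⟨a, ha, e, he, rfl⟩ := mem_sup_of_normal_right.1 h1
      obtain ⟨i, rfl⟩ := mem_powers_iff_mem_zpowers.2 ha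
      have hi : p.Coprime i := hp.out.coprime_iff_not_dvd.2 (by
        rintro ⟨c, rfl⟩
        exact h2 (mul_mem (mem_sup_left (by
          simp only [pow_mul]
          exact pow_mem (mem_zpowers _) _)) (mem_sup_right he)))
      have hxp := (hord x s).2 hx
      refine ⟨?_, le_antisymm (sup_le (zpowers_le.2 h1) le_sup_right) (sup_le (zpowers_le.2 ?_)
        le_sup_right)⟩
      · rw [← hord, hpow e he, ← pow_mul, mul_comm, pow_mul, Nat.Coprime.orderOf_pow, hxp]
        rw [hxp]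
        exact hi.pow_left _
      · have h3 : x ^ i ∈ zpowers (x ^ i * e) ⊔ E := by
          have := mul_mem (mem_sup_left (mem_zpowers (x ^ i * e))) (mem_sup_right (inv_mem he))
          rwa [mul_inv_cancel_right] at this
        exact zpowers_le.2 h3 (mem_zpowers_pow_iff.2 (by rw [hx]; exact hi.symm.pow_right _))
  have h1 : Nat.card {y : {y : G // orderOf y = p ^ (s + 2)} //
      zpowers y.1 ⊔ E = zpowers x ⊔ E} =
      Nat.card {y // y ∈ zpowers x ⊔ E ∧ ¬ y ∈ zpowers (x ^ p) ⊔ E} :=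
    Nat.card_congr ((Equiv.subtypeSubtypeEquivSubtypeInter _ _).trans
      (Equiv.subtypeEquivRight key))
  have h2 := PGrp.card_eq_card_add_card (fun y => y ∈ zpowers x ⊔ E)
    (fun y => y ∈ zpowers (x ^ p) ⊔ E)
  rw [Nat.card_congr (Equiv.subtypeEquivRight
    (p := fun y => y ∈ zpowers x ⊔ E ∧ y ∈ zpowers (x ^ p) ⊔ E)
    (q := fun y => y ∈ zpowers (x ^ p) ⊔ E) fun y => ⟨fun h => h.2, fun h => ⟨hle h, h⟩⟩)] at h2
  have h3 : p ^ (s + 2) ∣ Nat.card ↥(zpowers x ⊔ E) := by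
    rw [← hx, ← Nat.card_zpowers]
    exact card_dvd_of_le le_sup_left
  have h4 : p ^ (s + 2) ∣ Nat.card ↥(zpowers (x ^ p) ⊔ E) := by
    obtain ⟨k, hk⟩ := PGrp.exists_card_eq_pow hG (zpowers (x ^ p) ⊔ E)
    have h5 : zpowers (x ^ p) < zpowers (x ^ p) ⊔ E := left_lt_sup.2 fun h => by
      have : IsCyclic E := Subgroup.isCyclic_of_le h
      have h6 : Monoid.exponent E ∣ p := Monoid.exponent_dvd_of_forall_pow_eq_one fun g =>
        Subtype.ext (hE.2 g g.2)
      rw [IsCyclic.exponent_eq_card, hEc] at h6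
      have := Nat.le_of_dvd hp.out.pos h6
      have := hp.out.one_lt
      nlinarith
    have h6 := PGrp.card_lt_of_lt h5
    rw [Nat.card_zpowers, (hord x s).2 hx, hk, Nat.pow_lt_pow_iff_right hp.out.one_lt] at h6
    rw [hk]
    exact pow_dvd_pow p h6
  simp only
  rw [h1]
  rw [h2] at h3
  exact (Nat.dvd_add_right h4).1 h3

omit [Finite G] in
theorem card_orderOf_eq_mul {a b : ℕ} (hab : a.Coprime b) (ha : a ≠ 0) (hb : b ≠ 0) :
    Nat.card {x : G // orderOf x = a * b} =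
      Nat.card {q : G × G // orderOf q.1 = b ∧ orderOf q.2 = a ∧ Commute q.2 q.1} := by
  obtain ⟨i, hi1, hi2⟩ := Nat.chineseRemainder hab 1 0
  obtain ⟨j, hj1, hj2⟩ := Nat.chineseRemainder hab 0 1
  have hbi : b ∣ i := (Nat.modEq_zero_iff_dvd).1 hi2
  have haj : a ∣ j := (Nat.modEq_zero_iff_dvd).1 hj1
  have hai : a.Coprime i := by
    rw [Nat.Coprime, Nat.gcd_comm, hi1.gcd_eq, Nat.gcd_one_left]
  have hbj : b.Coprime j := by
    rw [Nat.Coprime, Nat.gcd_comm, hj2.gcd_eq, Nat.gcd_one_left]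
  refine Nat.card_congr
    { toFun := fun x => ⟨(x.1 ^ j, x.1 ^ i), ?_, ?_, (Commute.refl _).pow_pow _ _⟩
      invFun := fun q => ⟨q.1.2 * q.1.1, by
        rw [q.2.2.2.orderOf_mul_eq_mul_orderOf_of_coprime (by rwa [q.2.1, q.2.2.1]), q.2.1,
          q.2.2.1]⟩
      left_inv := fun x => Subtype.ext ?_
      right_inv := fun q => Subtype.ext (Prod.ext ?_ ?_) }
  · obtain ⟨c, rfl⟩ := haj
    have h1 : orderOf (x.1 ^ a) = b := by
      rw [orderOf_pow_of_dvd ha ((dvd_mul_right a b).trans x.2.symm.dvd), x.2,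
        Nat.mul_div_cancel_left _ (Nat.pos_of_ne_zero ha)]
    simp only
    rw [pow_mul, Nat.Coprime.orderOf_pow (by rw [h1]; exact hbj.coprime_mul_left_right), h1]
  · obtain ⟨c, rfl⟩ := hbi
    have h1 : orderOf (x.1 ^ b) = a := by
      rw [orderOf_pow_of_dvd hb ((dvd_mul_left b a).trans x.2.symm.dvd), x.2,
        Nat.mul_div_cancel _ (Nat.pos_of_ne_zero hb)]
    simp only
    rw [pow_mul, Nat.Coprime.orderOf_pow (by rw [h1]; exact hai.coprime_mul_left_right), h1]
  · simp only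
    rw [← pow_add]
    conv_rhs => rw [← pow_one x.1]
    rw [pow_eq_pow_iff_modEq, x.2, ← Nat.modEq_and_modEq_iff_modEq_mul hab]
    exact ⟨hi1.add hj1, hi2.add hj2⟩
  · simp only
    rw [q.2.2.2.mul_pow, orderOf_dvd_iff_pow_eq_one.1 (q.2.2.1.dvd.trans haj), one_mul]
    conv_rhs => rw [← pow_one q.1.1]
    rw [pow_eq_pow_iff_modEq, q.2.1]
    exact hj2
  · simp only
    rw [q.2.2.2.mul_pow, orderOf_dvd_iff_pow_eq_one.1 (q.2.1.dvd.trans hbi), mul_one]
    conv_rhs => rw [← pow_one q.1.2]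
    rw [pow_eq_pow_iff_modEq, q.2.2.1]
    exact hi1

end Cfsg.Agent.Reg
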