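import Cfsg.Agent.Lib.Mod.GroupForm
import Cfsg.Agent.Lib.Mod.DSer
import Cfsg.Agent.Lib.Mod.Dimension
import Cfsg.Agent.Lib.PGrp.DQS
import Cfsg.Agent.Lib.Reg.MetaAut

/-!
Faithful representations of finite `p`-groups in coprime characteristic: the trichotomy
(cyclic or dihedral type / decomposable / imprimitive), and bounds on the derived length.
-/

namespace Cfsg.Agent.Reg

open Subgroup Module Cfsg.Agent.Mod
open scoped commutatorElement

universe u v

section Tri

variable {k G V : Type*} [Field k] [Group G] [AddCommGroup V] [Module k V]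
  {ρ : Representation k G V} {p : ℕ} [hp : Fact p.Prime]

variable (ρ) in
/-- The representation of `M` on an `M`-invariant subspace. -/
def resRep (M : Subgroup G) (W : Submodule k V) (h : IsInv ρ M W) : Representation k M W where
  toFun g := (ρ g).restrict (h g g.2)
  map_one' := by ext; simp
  map_mul' g h := by ext; simp

theorem resRep_ker (M : Subgroup G) (W : Submodule k V) (h : IsInv ρ M W) :
    (resRep ρ M W h).ker = (kerOn ρ W).subgroupOf M := by
  ext g
  rw [MonoidHom.mem_ker, mem_subgroupOf, mem_kerOn]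
  exact ⟨fun h w hw => congrArg Subtype.val (LinearMap.congr_fun h ⟨w, hw⟩),
    fun h => LinearMap.ext fun w => Subtype.ext (h w w.2)⟩

theorem kerOn_sup (W U : Submodule k V) : kerOn ρ (W ⊔ U) = kerOn ρ W ⊓ kerOn ρ U := by
  refine le_antisymm (le_inf (fun g hg w hw => hg w (Submodule.mem_sup_left hw))
    (fun g hg w hw => hg w (Submodule.mem_sup_right hw))) ?_
  rw [le_kerOn_iff]
  exact sup_le (le_kerOn_iff.1 inf_le_left) (le_kerOn_iff.1 inf_le_right)

theorem geom_sum_eq_zero_of_fix {Z : End k V} (hZ : Z ^ p = 1) (hfix : ∀ v, Z v = v → v = 0)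
    {j : ℕ} (hj : ¬ p ∣ j) : ∑ i ∈ Finset.range p, (Z ^ j) ^ i = 0 := by
  ext v
  have h1 : (Z ^ j - 1) * ∑ i ∈ Finset.range p, (Z ^ j) ^ i = 0 := by
    rw [mul_geom_sum, ← pow_mul, mul_comm, pow_mul, hZ, one_pow, sub_self]
  set w := (∑ i ∈ Finset.range p, (Z ^ j) ^ i) v with hw
  have h2 : (Z ^ j) w = w := by
    have := LinearMap.congr_fun h1 v
    rwa [End.mul_apply, LinearMap.sub_apply, ← hw, End.one_apply, LinearMap.zero_apply,
      sub_eq_zero] at this
  have h3 : ∀ m : ℕ, (Z ^ (j * m)) w = w := by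
    intro m
    induction m with
    | zero => simp
    | succ m ih => rw [Nat.mul_succ, pow_add, End.mul_apply, h2, ih]
  obtain ⟨m, -, hm⟩ := Nat.exists_mul_mod_eq_one_of_coprime
    ((Nat.coprime_comm.1 (hp.out.coprime_iff_not_dvd.2 hj))) hp.out.one_lt
  have h4 := h3 m
  rw [← Nat.div_add_mod (j * m) p, hm, pow_add, pow_mul, hZ, one_pow, one_mul, pow_one] at h4
  exact hfix w h4

/-- Decomposition of `V` under a pair of commuting operators of order `p`, the first without
fixed vectors. -/
theorem decomp_of_commute (hk : (p : k) ≠ 0) {Z X : End k V} (hZ : Z ^ p = 1) (hX : X ^ p = 1)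
    (hc : Commute Z X) (hfix : ∀ v, Z v = v → v = 0) :
    iSupIndep (fun i : Fin p => LinearMap.eqLocus (Z ^ (i : ℕ) * X) 1) ∧
      ⨆ i : Fin p, LinearMap.eqLocus (Z ^ (i : ℕ) * X) 1 = ⊤ := by
  let N : Fin p → End k V := fun i => ∑ j ∈ Finset.range p, (Z ^ (i : ℕ) * X) ^ j
  have hpow : ∀ i : ℕ, (Z ^ i * X) ^ p = 1 := fun i => by
    rw [(hc.pow_left i).mul_pow, ← pow_mul, mul_comm i, pow_mul, hZ, hX, one_pow, one_mul]
  have hN : ∀ (i : Fin p) v, N i v ∈ LinearMap.eqLocus (Z ^ (i : ℕ) * X) 1 := by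
    intro i v
    have h1 : (Z ^ (i : ℕ) * X - 1) * N i = 0 := by rw [mul_geom_sum, hpow, sub_self]
    have := LinearMap.congr_fun h1 v
    rwa [End.mul_apply, LinearMap.sub_apply, LinearMap.zero_apply, sub_eq_zero] at this
  have hsum : ∑ i, N i = (p : k) • 1 := by
    simp only [N]
    rw [Finset.sum_comm]
    obtain ⟨q, hq⟩ : ∃ q, p = q + 1 := ⟨p - 1, by have := hp.out.pos; omega⟩
    have h1 : ∀ j : ℕ, ∑ i : Fin p, (Z ^ (i : ℕ) * X) ^ j =
        (∑ i ∈ Finset.range p, (Z ^ j) ^ i) * X ^ j := by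
      intro j
      rw [Finset.sum_mul, ← Fin.sum_univ_eq_sum_range (fun i => (Z ^ j) ^ i * X ^ j)]
      refine Finset.sum_congr rfl fun i _ => ?_
      rw [(hc.pow_left _).mul_pow, ← pow_mul, ← pow_mul, mul_comm j]
    simp only [h1]
    rw [Finset.sum_eq_single 0]
    · simp [Nat.cast_smul_eq_nsmul]
    · intro j hj hj0
      rw [geom_sum_eq_zero_of_fix hZ hfix
        (Nat.not_dvd_of_pos_of_lt (Nat.pos_of_ne_zero hj0) (Finset.mem_range.1 hj)), zero_mul]
    · intro h
      exact absurd (Finset.mem_range.2 hp.out.pos) h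
  have hself : ∀ i, ∀ v ∈ LinearMap.eqLocus (Z ^ ((i : Fin p) : ℕ) * X) 1,
      N i v = (p : k) • v := by
    intro i v hv
    have h1 : ∀ j : ℕ, ((Z ^ (i : ℕ) * X) ^ j) v = v := by
      intro j
      induction j with
      | zero => simp
      | succ j ih => rw [pow_succ, End.mul_apply, show (Z ^ (i : ℕ) * X) v = v from hv, ih]
    simp [N, LinearMap.sum_apply, h1, Nat.cast_smul_eq_nsmul]
  have hother : ∀ i l : Fin p, l ≠ i → ∀ v ∈ LinearMap.eqLocus (Z ^ (l : ℕ) * X) 1,
      N i v = 0 := by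
    intro i l hli v hv
    have h0 : Z ^ (i : ℕ) * X = Z ^ ((i : ℕ) + (p - l)) * (Z ^ (l : ℕ) * X) := by
      rw [← mul_assoc, ← pow_add, add_assoc, Nat.sub_add_cancel l.2.le, pow_add, hZ, mul_one]
    have h1 : ∀ j : ℕ, ((Z ^ (i : ℕ) * X) ^ j) v = ((Z ^ ((i : ℕ) + (p - l))) ^ j) v := by
      intro j
      have h2 : ∀ j : ℕ, ((Z ^ (l : ℕ) * X) ^ j) v = v := by
        intro j
        induction j with
        | zero => simp
        | succ j ih => rw [pow_succ, End.mul_apply, show (Z ^ (l : ℕ) * X) v = v from hv, ih]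
      rw [h0, Commute.mul_pow (((Commute.refl Z).pow_pow _ _).mul_right (hc.pow_left _)),
        End.mul_apply, h2]
    have h3 : ¬ p ∣ (i : ℕ) + (p - l) := by
      rintro ⟨c, hc⟩
      have hi := i.2
      have hl := l.2
      have hne : (l : ℕ) ≠ i := fun h => hli (Fin.ext h)
      rcases c with _ | _ | c
      · omega
      · omega
      · have : p * (c + 1 + 1) = p * c + 2 * p := by ring
        omega
    have := LinearMap.congr_fun (geom_sum_eq_zero_of_fix hZ hfix h3) v
    simpa [N, LinearMap.sum_apply, h1] using this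
  constructor
  · intro i
    rw [Submodule.disjoint_def]
    intro v hv hv'
    have h1 : (⨆ l, ⨆ (_ : l ≠ i), LinearMap.eqLocus (Z ^ ((l : Fin p) : ℕ) * X) 1) ≤
        LinearMap.ker (N i) := iSup₂_le fun l hl v hv => hother i l hl v hv
    have h2 : N i v = 0 := h1 hv'
    rw [hself i v hv] at h2
    exact (smul_eq_zero.1 h2).resolve_left hk
  · rw [eq_top_iff]
    intro v _
    have h1 : v = (p : k)⁻¹ • ∑ i, N i v := by
      rw [← LinearMap.sum_apply, hsum, LinearMap.smul_apply, smul_smul, inv_mul_cancel₀ hk,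
        one_smul, End.one_apply]
    rw [h1]
    exact Submodule.smul_mem _ _ (Submodule.sum_mem _ fun i _ =>
      Submodule.mem_iSup_of_mem i (hN i v))

/-- The trichotomy for a faithful representation of a finite `p`-group. -/
theorem rep_trichotomy [Finite G] [FiniteDimensional k V] (hG : IsPGroup p G) (hk : (p : k) ≠ 0)
    (hρ : Function.Injective ρ) :
    (IsCyclic G ∨ (p = 2 ∧ ∃ (n : ℕ) (x y : G), PGrp.IsDQS n x y)) ∨
    (∃ W U : Submodule k V, IsInv ρ ⊤ W ∧ IsInv ρ ⊤ U ∧ IsCompl W U ∧ W ≠ ⊥ ∧ U ≠ ⊥) ∨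
    (¬ IsMulCommutative G ∧ ∃ M : Subgroup G, M.Normal ∧ M.index = p ∧
      ∃ W : Fin p → Submodule k V, (∀ i, IsInv ρ M (W i)) ∧ ⨆ i, W i = ⊤ ∧
        ∀ i, p * finrank k (W i) = finrank k V) := by
  rcases PGrp.isCyclic_or_dqs_or_exists_normal_elemAb hG with h | h | ⟨E, hEn, hE, hEc⟩
  · exact Or.inl (Or.inl h)
  · exact Or.inl (Or.inr h)
  right
  rw [or_iff_not_imp_left]
  intro hdec
  -- central elements of order `p` have no fixed vectors
  have hcen : ∀ z ∈ center G, z ≠ 1 → z ^ p = 1 → ∀ v, ρ z v = v → v = 0 := by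
    intro z hz hz1 hzp v hv
    have hn : (⊤ : Subgroup G) ≤ normalizer (zpowers z : Set G) := by
      have : (zpowers z).Normal := ⟨fun n hn g => by
        rwa [mem_center_iff.1 (zpowers_le.2 hz hn) g, mul_inv_cancel_right]⟩
      rw [normalizer_eq_top]
    have hc : (Nat.card (zpowers z) : k) ≠ 0 := by
      rwa [Nat.card_zpowers, orderOf_eq_prime hzp hz1]
    by_contra hv0
    refine hdec ⟨_, _, isInv_fix hn, isInv_cmt hn, isCompl_fix_cmt hc, fun h => hv0 ?_,
      fun h => hz1 (hρ ?_)⟩
    · have : v ∈ fix ρ (zpowers z) := mem_fix_zpowers.2 hv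
      rwa [h, Submodule.mem_bot] at this
    · ext w
      have := sub_mem_cmt (ρ := ρ) (mem_zpowers z) w
      rw [h, Submodule.mem_bot, sub_eq_zero] at this
      rw [this, map_one, End.one_apply]
  have hEcomm : ∀ a ∈ E, ∀ b ∈ E, Commute a b := fun a ha b hb =>
    congrArg Subtype.val (hE.1.1.1 ⟨a, ha⟩ ⟨b, hb⟩)
  have hW : ∀ (z e : G) (i : ℕ), fix ρ (zpowers (z ^ i * e)) =
      LinearMap.eqLocus (ρ z ^ i * ρ e) 1 := by
    intro z e i
    ext v
    rw [mem_fix_zpowers, map_mul, map_pow]
    rfl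
  have hdec2 : ∀ z ∈ E, ∀ e ∈ E, z ∈ center G → z ≠ 1 →
      iSupIndep (fun i : Fin p => fix ρ (zpowers (z ^ (i : ℕ) * e))) ∧
        ⨆ i : Fin p, fix ρ (zpowers (z ^ (i : ℕ) * e)) = ⊤ := by
    intro z hz e he hzc hz1
    simp only [hW]
    exact decomp_of_commute hk (by rw [← map_pow, hE.2 z hz, map_one])
      (by rw [← map_pow, hE.2 e he, map_one]) ((hEcomm z hz e he).map ρ)
      (hcen z hzc hz1 (hE.2 z hz))
  have hp1 := hp.out.one_lt
  have hnot : ¬ E ≤ center G := by
    intro hle
    have hE0 : E ≠ ⊥ := fun h => by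
      rw [h, card_bot] at hEc
      exact absurd hEc (Nat.one_lt_pow two_ne_zero hp1).ne
    obtain ⟨⟨z, hz⟩, hz1⟩ := (ne_bot_iff_exists_ne_one).1 hE0
    have hz1 : z ≠ 1 := fun h => hz1 (Subtype.ext h)
    have : ¬ E ≤ zpowers z := fun h => by
      have := card_le_of_le h
      rw [hEc, Nat.card_zpowers, orderOf_eq_prime (hE.2 z hz) hz1] at this
      nlinarith
    obtain ⟨e, he, hez⟩ := SetLike.not_le_iff_exists.1 this
    have h2 := (hdec2 z hz e he (hle hz) hz1).2
    have h3 : ∀ i : Fin p, fix ρ (zpowers (z ^ (i : ℕ) * e)) = ⊥ := by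
      intro i
      have hm : z ^ (i : ℕ) * e ∈ E := E.mul_mem (E.pow_mem hz _) he
      rw [eq_bot_iff]
      intro v hv
      refine hcen _ (hle hm) (fun h => hez ?_) (hE.2 _ hm) v (mem_fix_zpowers.1 hv)
      rw [eq_inv_of_mul_eq_one_right h]
      exact inv_mem (pow_mem (mem_zpowers z) _)
    simp only [h3, iSup_bot] at h2
    refine hz1 (hρ (LinearMap.ext fun v => ?_))
    have : v ∈ (⊥ : Submodule k V) := h2 ▸ Submodule.mem_top
    rw [(Submodule.mem_bot k).1 this, map_zero, map_zero]
  obtain ⟨e, he, hec⟩ := SetLike.not_le_iff_exists.1 hnot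
  have hcm : ∀ g : G, ⁅g, e⁆ ∈ center G := fun g => by
    rw [← commutatorElement_inv]
    exact inv_mem (commutator_mem_center_of_card_le_sq hG hEc.le he g)
  have hcE : ∀ g : G, ⁅g, e⁆ ∈ E := fun g => by
    rw [commutatorElement_def]
    exact E.mul_mem (hEn.conj_mem e he g) (E.inv_mem he)
  let φ : G →* G := MonoidHom.mk' (fun g => ⁅g, e⁆) fun a b => by
    have h1 := mem_center_iff.1 (hcm b) a
    calc ⁅a * b, e⁆ = a * ⁅b, e⁆ * a⁻¹ * ⁅a, e⁆ := by simp only [commutatorElement_def]; group
      _ = ⁅b, e⁆ * ⁅a, e⁆ := by rw [h1, mul_inv_cancel_right]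
      _ = _ := mem_center_iff.1 (hcm a) _
  obtain ⟨t, ht⟩ : ∃ t : G, ⁅t, e⁆ ≠ 1 := by
    by_contra h
    push Not at h
    exact hec (mem_center_iff.2 fun g => commutatorElement_eq_one_iff_mul_comm.1 (h g))
  set z := ⁅t, e⁆ with hz
  obtain ⟨hind, htop⟩ := hdec2 z (hcE t) e he (hcm t) ht
  have hidx : φ.ker.index = p := by
    rw [index_ker]
    have h1 : φ.range < E := by
      refine lt_of_le_of_ne ?_ fun h => hec ?_
      · rintro _ ⟨g, rfl⟩
        exact hcE g
      · obtain ⟨g, hg⟩ : e ∈ φ.range := h ▸ he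
        exact hg ▸ hcm g
    have h2 : Nat.card φ.range ∣ p ^ 2 := hEc ▸ card_dvd_of_le h1.le
    obtain ⟨m, hm, h3⟩ := (Nat.dvd_prime_pow hp.out).1 h2
    interval_cases m
    · rw [pow_zero, card_eq_one] at h3
      have : φ t ∈ φ.range := ⟨t, rfl⟩
      rw [h3, mem_bot] at this
      exact absurd this ht
    · rw [h3, pow_one]
    · exact absurd (eq_of_le_of_card_ge h1.le (by rw [h3, hEc])) h1.ne
  have hconj : ∀ i : ℕ, t ^ i * e * (t ^ i)⁻¹ = z ^ i * e := by
    intro i
    have : ⁅t ^ i, e⁆ = z ^ i := map_pow φ t i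
    rw [← this, commutatorElement_def, inv_mul_cancel_right]
  have hmap : ∀ i : ℕ, fix ρ (zpowers (z ^ i * e)) = (fix ρ (zpowers e)).map (ρ (t ^ i)) := by
    intro i
    ext v
    rw [mem_map_rho, mem_fix_zpowers, mem_fix_zpowers, ← hconj, rho_mul_apply, rho_mul_apply]
    constructor
    · intro h
      apply rho_injective ρ (t ^ i)
      rw [h, ← rho_mul_apply, mul_inv_cancel, map_one, End.one_apply]
    · intro h
      rw [h, ← rho_mul_apply, mul_inv_cancel, map_one, End.one_apply]
  refine ⟨fun hc => ht (commutatorElement_eq_one_iff_mul_comm.2 (hc.1.1 _ _)), φ.ker,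
    inferInstance, hidx, fun i => fix ρ (zpowers (z ^ (i : ℕ) * e)), fun i => ?_, htop,
    fun i => ?_⟩
  · refine isInv_fix (le_trans ?_ (centralizer_le_normalizer _))
    intro g hg
    rw [PGrp.centralizer_zpowers, mem_centralizer_singleton_iff]
    have h1 : g * e = e * g := commutatorElement_eq_one_iff_mul_comm.1 hg
    have h2 := mem_center_iff.1 (pow_mem (hcm t) (i : ℕ)) g
    rw [← mul_assoc, h2, mul_assoc, h1, mul_assoc]
  · have h1 := finrank_iSup_of_iSupIndep hind
    rw [htop, finrank_top] at h1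
    have h2 : ∀ i : ℕ, finrank k (fix ρ (zpowers (z ^ i * e))) = finrank k (fix ρ (zpowers e)) :=
      fun i => by rw [hmap, finrank_map_rho]
    simp only [h2] at h1 ⊢
    rw [h1]
    simp

theorem commute_of_finrank_le_one [FiniteDimensional k V] (h : finrank k V ≤ 1) (f g : End k V) :
    f * g = g * f := by
  rcases Nat.le_one_iff_eq_zero_or_eq_one.1 h with h | h
  · have := finrank_zero_iff.1 h
    exact Subsingleton.elim _ _
  · obtain ⟨c, rfl, -⟩ := LinearMap.existsUnique_eq_smul_id_of_finrank_eq_one h f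
    ext v
    simp

theorem finrank_lt_of_isCompl [FiniteDimensional k V] {W U : Submodule k V} (h : IsCompl W U)
    (hU : U ≠ ⊥) : finrank k W < finrank k V := by
  have h1 := Submodule.finrank_add_eq_of_isCompl h
  have h2 : finrank k U ≠ 0 := fun h => hU (Submodule.finrank_eq_zero.1 h)
  omega

theorem dser_le_kerOn {M : Subgroup G} {W : Submodule k V} (h : IsInv ρ M W) {m : ℕ}
    (hm : derivedSeries M m ≤ (resRep ρ M W h).ker) : dser M m ≤ kerOn ρ W := by
  rw [← map_derivedSeries_subtype, map_le_iff_le_comap]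
  rwa [resRep_ker] at hm

theorem derivedSeries_le_ker_of_kerRep {m : ℕ} (hm : derivedSeries (G ⧸ ρ.ker) m = ⊥) :
    derivedSeries G m ≤ ρ.ker := by
  rw [← map_derivedSeries_eq (QuotientGroup.mk'_surjective ρ.ker), Subgroup.map_eq_bot_iff,
    QuotientGroup.ker_mk'] at hm
  exact hm

end Tri

section Derived

variable {k : Type*} [Field k] {p : ℕ} [hp : Fact p.Prime]

theorem derivedSeries_eq_bot_of_finrank_lt (hk : (p : k) ≠ 0) {e : ℕ} (he2 : p = 2 → e ≤ 1)
    (he : ∀ (V : Type v) [AddCommGroup V] [Module k V] [FiniteDimensional k V] (f : End k V),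
      f ^ p = 1 → f ≠ 1 → e ≤ finrank k V) (n : ℕ) :
    ∀ (G : Type u) (V : Type v) [Group G] [Finite G] [AddCommGroup V] [Module k V]
      [FiniteDimensional k V] (ρ : Representation k G V), IsPGroup p G → finrank k V = n →
      Function.Injective ρ → ∀ m, n < e * p ^ m → derivedSeries G m = ⊥ := by
  induction n using Nat.strong_induction_on with
  | _ n ih =>
  intro G V _ _ _ _ _ ρ hG hn hρ m hm
  have ih' : ∀ (M : Subgroup G) (W : Submodule k V) (h : IsInv ρ M W) (m : ℕ),
      finrank k W < n → finrank k W < e * p ^ m → dser M m ≤ kerOn ρ W := fun M W h m h1 h2 =>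
    dser_le_kerOn h (derivedSeries_le_ker_of_kerRep (ih _ h1 _ W (kerRep (resRep ρ M W h))
      ((hG.to_subgroup M).to_quotient _) rfl kerRep_injective m h2))
  have hker : ρ.ker = ⊥ := (MonoidHom.ker_eq_bot_iff ρ).2 hρ
  rcases m with _ | m
  · rw [pow_zero, mul_one] at hm
    by_contra hne
    have : Nontrivial G := by
      by_contra h
      have := not_nontrivial_iff_subsingleton.1 h
      exact hne (Subsingleton.elim _ _)
    obtain ⟨j, hj0, hj⟩ := hG.nontrivial_iff_card.1 this
    obtain ⟨x, hx⟩ := exists_prime_orderOf_dvd_card' (G := G) p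
      (hj ▸ dvd_pow_self p hj0.ne')
    have h1 := he V (ρ x) (by rw [← map_pow, ← hx, pow_orderOf_eq_one, map_one]) fun h => by
      rw [← map_one ρ] at h
      rw [hρ h, orderOf_one] at hx
      exact hp.out.one_lt.ne hx
    omega
  have habel : IsMulCommutative G → derivedSeries G (m + 1) = ⊥ := fun hc => by
    have h1 : derivedSeries G 1 = ⊥ := by
      rw [derivedSeries_one, commutator_eq_bot_iff]
      exact hc
    rw [eq_bot_iff, ← h1, ← dser_top, ← dser_top]
    exact dser_anti _ (by omega)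
  rcases rep_trichotomy hG hk hρ with (h | ⟨h2, n', x, y, h⟩) | ⟨W, U, hW, hU, hc, hW0, hU0⟩ |
    ⟨hna, M, hMn, hM, W, hW, htop, hdim⟩
  · exact habel inferInstance
  · rcases m with _ | m
    · refine habel ⟨⟨fun a b => hρ ?_⟩⟩
      have := he2 h2
      rw [map_mul, map_mul]
      refine commute_of_finrank_le_one ?_ _ _
      subst h2
      have : e * 2 ^ (0 + 1) ≤ 2 := by omega
      omega
    · have h1 : derivedSeries G 2 = ⊥ := by
        rw [derivedSeries_succ, derivedSeries_one, h.commutator_eq,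
          commutator_eq_bot_iff_le_centralizer]
        exact le_centralizer _
      rw [eq_bot_iff, ← h1, ← dser_top, ← dser_top]
      exact dser_anti _ (by omega)
  · have h1 := finrank_lt_of_isCompl hc hU0
    have h2 := finrank_lt_of_isCompl hc.symm hW0
    rw [eq_bot_iff, ← hker, ← kerOn_top, ← hc.sup_eq_top, kerOn_sup, ← dser_top]
    exact le_inf (ih' _ _ hW _ (by omega) (by omega)) (ih' _ _ hU _ (by omega) (by omega))
  · have hn0 : n ≠ 0 := by
      rintro rfl
      refine hna ⟨⟨fun a b => hρ ?_⟩⟩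
      rw [map_mul, map_mul]
      exact commute_of_finrank_le_one (by omega) _ _
    have h1 : dser M m ≤ ⊥ := by
      rw [← hker, ← kerOn_top, ← htop, le_kerOn_iff, iSup_le_iff]
      intro i
      rw [← le_kerOn_iff]
      have h2 := hdim i
      have h3 := hp.out.two_le
      refine ih' _ _ (hW i) _ (by have := Nat.mul_le_mul_right (finrank k (W i)) h3; omega)
        (Nat.lt_of_mul_lt_mul_left (a := p) ?_)
      rw [h2, hn]
      refine hm.trans_eq (by ring)
    rw [eq_bot_iff, ← dser_top, add_comm, dser_add]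
    exact (dser_mono (PGrp.commutator_le_of_index_eq hM) m).trans h1

end Derived

section Frat

variable {G : Type*} [Group G] [Finite G] {p : ℕ} [hp : Fact p.Prime]

theorem index_frattini_le_mul (hG : IsPGroup p G) (K : Subgroup G) :
    (frattini G).index ≤ (frattini G ⊔ K).index * (frattini K).index := by
  rw [← relIndex_mul_index (le_sup_left : frattini G ≤ frattini G ⊔ K), mul_comm,
    relIndex_sup_left]
  refine Nat.mul_le_mul_left _ (index_antitone ?_)
  exact map_le_iff_le_comap.1 (PGrp.map_frattini_subtype_le hG K)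

theorem index_frattini_quotient (hG : IsPGroup p G) (K : Subgroup G) [K.Normal] :
    (frattini (G ⧸ K)).index = (frattini G ⊔ K).index := by
  rw [← PGrp.map_frattini_of_surjective hG _ (QuotientGroup.mk'_surjective K), index_map,
    QuotientGroup.ker_mk', MonoidHom.range_eq_top.2 (QuotientGroup.mk'_surjective K), index_top,
    mul_one]

theorem index_ker_le_two {k V : Type*} [Field k] [AddCommGroup V] [Module k V] [Finite V]
    (ρ : Representation k G V) (hV : Nat.card V ≤ 3) : ρ.ker.index ≤ 2 := by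
  let f : G →* Equiv.Perm {v : V // v ≠ 0} := MonoidHom.toHomPerm
    { toFun := fun g v => ⟨ρ g v, fun h => v.2 ((rho_eq_zero_iff ρ).1 h)⟩
      map_one' := funext fun v => Subtype.ext (LinearMap.congr_fun (map_one ρ) v.1)
      map_mul' := fun a b => funext fun v => Subtype.ext (rho_mul_apply ρ a b v.1) }
  have h1 : f.ker ≤ ρ.ker := fun g hg => by
    ext v
    by_cases hv : v = 0
    · rw [hv, map_zero, map_zero]
    · exact congrArg Subtype.val (Equiv.congr_fun hg ⟨v, hv⟩)
  refine (index_antitone h1).trans ?_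
  rw [index_ker]
  refine (card_le_card_group _).trans ?_
  classical
  have := Fintype.ofFinite V
  rw [Nat.card_eq_fintype_card, Fintype.card_perm]
  have h2 : Fintype.card {v : V // v ≠ 0} ≤ 2 := by
    rw [Fintype.card_subtype_compl, Fintype.card_subtype_eq, ← Nat.card_eq_fintype_card]
    omega
  exact Nat.factorial_le h2

theorem two_mul_index_frattini_le {k : Type*} [Field k] [Finite k] (hk : ((2 : ℕ) : k) ≠ 0)
    (n : ℕ) :
    ∀ (G : Type u) (V : Type v) [Group G] [Finite G] [AddCommGroup V] [Module k V]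
      [FiniteDimensional k V] (ρ : Representation k G V), IsPGroup 2 G → finrank k V = n →
      Function.Injective ρ → 2 * (frattini G).index ≤ max (Nat.card k ^ n) 4 := by
  induction n using Nat.strong_induction_on with
  | _ n ih =>
  intro G V _ _ _ _ _ ρ hG hn hρ
  have hq : 3 ≤ Nat.card k := by
    have := Fintype.ofFinite k
    have h2 : ringChar k ≠ 2 := fun h => hk ((ringChar.spec k 2).2 h.dvd)
    have := FiniteField.odd_card_of_char_ne_two h2
    have := Fintype.one_lt_card (α := k)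
    rw [Nat.card_eq_fintype_card]
    omega
  have hker : ρ.ker = ⊥ := (MonoidHom.ker_eq_bot_iff ρ).2 hρ
  -- the bound for an invariant decomposition
  have hdec : ∀ (M : Subgroup G) (W U : Submodule k V), IsInv ρ M W → IsInv ρ M U → W ⊔ U = ⊤ →
      finrank k W < n → finrank k U < n → 4 * (frattini M).index ≤
        max (Nat.card k ^ finrank k W) 4 * max (Nat.card k ^ finrank k U) 4 := by
    intro M W U hW hU hWU h1 h2
    have h3 := ih _ h1 _ W (kerRep (resRep ρ M W hW)) ((hG.to_subgroup M).to_quotient _) rfl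
      kerRep_injective
    have h4 := ih _ h2 _ U ((resRep ρ M U hU).comp (resRep ρ M W hW).ker.subtype)
      ((hG.to_subgroup M).to_subgroup _) rfl (by
        rw [injective_iff_map_eq_one]
        rintro ⟨g, hg⟩ hg'
        have h5 : g ∈ (resRep ρ M U hU).ker := hg'
        rw [resRep_ker] at hg h5
        have h6 : (g : G) ∈ kerOn ρ (W ⊔ U) := by rw [kerOn_sup]; exact ⟨hg, h5⟩
        rw [hWU, kerOn_top, hker, mem_bot] at h6
        exact Subtype.ext (Subtype.ext h6))
    rw [index_frattini_quotient (hG.to_subgroup M)] at h3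
    have h5 := index_frattini_le_mul (hG.to_subgroup M) (resRep ρ M W hW).ker
    calc _ ≤ (2 * _) * (2 * _) := by linarith
      _ ≤ _ := Nat.mul_le_mul h3 h4
  have hna : ¬ IsMulCommutative G → 2 ≤ n := fun hna => by
    by_contra h
    refine hna ⟨⟨fun a b => hρ ?_⟩⟩
    rw [map_mul, map_mul]
    exact commute_of_finrank_le_one (by omega) _ _
  have hpow : ∀ m, m ≠ 0 → 3 ≤ Nat.card k ^ m := fun m hm =>
    hq.trans (Nat.le_self_pow hm _)
  rcases rep_trichotomy hG hk hρ with (h | ⟨-, n', x, y, h⟩) | ⟨W, U, hW, hU, hc, hW0, hU0⟩ |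
    ⟨hc, M, hMn, hM, W, hW, htop, hdim⟩
  · have := (PGrp.isCyclic_iff_index_frattini_le hG).1 h
    omega
  · classical
    have h1 := PGrp.index_frattini_le_of_closure_eq_top hG (S := {y, x}) (by
      rw [Finset.coe_pair, Set.insert_eq, Subgroup.closure_union, ← zpowers_eq_closure,
        ← zpowers_eq_closure]
      exact h.sup_eq_top h.2.2.2.1)
    have h2 : 2 ^ ({y, x} : Finset G).card ≤ 2 ^ 2 :=
      Nat.pow_le_pow_right two_pos Finset.card_le_two
    have h3 : 3 ^ 2 ≤ Nat.card k ^ n :=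
      (Nat.pow_le_pow_left hq 2).trans (Nat.pow_le_pow_right (by omega) (hna h.not_comm))
    omega
  · have h1 := finrank_lt_of_isCompl hc hU0
    have h2 := finrank_lt_of_isCompl hc.symm hW0
    have h3 := hdec ⊤ W U hW hU hc.sup_eq_top (by omega) (by omega)
    have h4 := Submodule.finrank_add_eq_of_isCompl hc
    have h5 := index_frattini_le_mul hG ⊤
    rw [sup_top_eq, index_top, one_mul] at h5
    rw [← hn, ← h4, pow_add]
    have h6 := hpow (finrank k W) (by omega)
    have h7 := hpow (finrank k U) (by omega)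
    generalize Nat.card k ^ finrank k W = w at *
    generalize Nat.card k ^ finrank k U = u at *
    refine le_max_of_le_left ?_
    rcases le_total w 4 with hw | hw <;> rcases le_total u 4 with hu | hu <;>
      simp only [max_eq_left, max_eq_right, hw, hu] at h3 <;> nlinarith
  · have h0 := hna hc
    have h1 := hdim 0
    have h2 := hdim 1
    have htop' : W 0 ⊔ W 1 = ⊤ := by
      rw [eq_top_iff, ← htop, iSup_le_iff, Fin.forall_fin_two]
      exact ⟨le_sup_left, le_sup_right⟩
    have h3 := hdec M _ _ (hW 0) (hW 1) htop' (by omega) (by omega)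
    have h4 := index_frattini_le_mul hG M
    have h5 : (frattini G ⊔ M).index ≤ 2 := hM ▸ index_antitone le_sup_right
    have h6 : finrank k (W 1) = finrank k (W 0) := by omega
    have h7 := hpow (finrank k (W 0)) (by omega)
    rw [h6] at h3
    rw [← hn, ← h1, two_mul (finrank k _), pow_add]
    refine le_max_of_le_left ?_
    rcases h7.eq_or_lt with h8 | h8
    · have hfin : Finite V := Module.finite_of_finite k
      have h9 : ∀ i, ((kerOn ρ (W i)).subgroupOf M).index ≤ 2 := fun i => by
        rw [← resRep_ker M _ (hW i)]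
        refine index_ker_le_two _ ?_
        rw [Module.natCard_eq_pow_finrank (K := k),
          show finrank k (W i) = finrank k (W 0) by have := hdim i; omega, ← h8]
      have h10 : Nat.card M ≤ 4 := by
        have := index_inf_le (H := (kerOn ρ (W 0)).subgroupOf M)
          (K := (kerOn ρ (W 1)).subgroupOf M)
        rw [subgroupOf, subgroupOf, ← Subgroup.comap_inf, ← kerOn_sup, htop', kerOn_top, hker,
          ← subgroupOf, bot_subgroupOf, index_bot] at this
        exact this.trans (Nat.mul_le_mul (h9 0) (h9 1))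
      have h11 := M.card_mul_index
      have h12 := (frattini G).card_mul_index
      have h13 : 2 ≤ Nat.card (frattini G) := by
        rw [Nat.succ_le_iff, one_lt_card_iff_ne_bot]
        exact fun h => hc ((PGrp.frattini_eq_bot_iff hG).1 h).1
      rw [← h8]
      nlinarith
    · rw [max_eq_left h8] at h3
      nlinarith

end Frat

section CharP

variable {k G V : Type*} [Field k] [Group G] [AddCommGroup V] [Module k V]
  {ρ : Representation k G V} {p : ℕ} [hp : Fact p.Prime] [CharP k p] [Finite G]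

theorem fix_ne_bot_of_charP [Nontrivial V] {H : Subgroup G} (hH : IsPGroup p H) :
    fix ρ H ≠ ⊥ := by
  induction H using Core.subgroup_induction_lt with
  | h H ih =>
  by_cases hH0 : H = ⊥
  · rw [hH0, fix_bot]
    exact top_ne_bot
  have := (nontrivial_iff_ne_bot H).2 hH0
  obtain ⟨K', hK'⟩ : ∃ K' : Subgroup H, IsCoatom K' := by
    rcases eq_top_or_exists_le_coatom (⊥ : Subgroup H) with h | ⟨K', h, -⟩
    · exact absurd h bot_ne_top
    · exact ⟨K', h⟩
  have hKn := PGrp.coatom_normal hH hK'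
  obtain ⟨x, -, hx⟩ := SetLike.exists_of_lt hK'.1.lt_top
  have hsup : K' ⊔ zpowers x = ⊤ := hK'.2 _ (left_lt_sup.2 fun h => hx (h (mem_zpowers x)))
  set K := K'.map H.subtype with hK
  have hKH : K < H := by
    have := map_subtype_lt_map_subtype.2 hK'.1.lt_top
    rwa [← MonoidHom.range_eq_map, range_subtype] at this
  have hsup' : K ⊔ zpowers (x : G) = H := by
    have := congrArg (Subgroup.map H.subtype) hsup
    rwa [Subgroup.map_sup, MonoidHom.map_zpowers, ← MonoidHom.range_eq_map, range_subtype] at this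
  obtain ⟨v, hv, hv0⟩ := (Submodule.ne_bot_iff _).1 (ih K hKH (hH.to_le hKH.le))
  have hxn : zpowers (x : G) ≤ normalizer (K : Set G) := by
    rw [zpowers_le]
    have := le_normalizer_map (H := K') H.subtype
    rw [normalizer_eq_top] at this
    exact this ⟨x, trivial, rfl⟩
  have hinv : IsInv ρ (zpowers (x : G)) (fix ρ K) := isInv_fix hxn
  obtain ⟨a, ha⟩ := hH x
  have hnil : (ρ x - 1) ^ p ^ a = 0 := by
    rw [sub_one_pow_char_pow, show (x : G) ^ p ^ a = 1 from congrArg Subtype.val ha, map_one,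
      sub_self]
  have key : ∀ j : ℕ, ((ρ x - 1) ^ j) v ∈ fix ρ K := by
    intro j
    induction j with
    | zero => simpa using hv
    | succ j ih =>
      rw [pow_succ', End.mul_apply, LinearMap.sub_apply]
      exact Submodule.sub_mem _ (hinv _ (mem_zpowers _) _ ih) ih
  classical
  have hex : ∃ j : ℕ, ((ρ x - 1) ^ j) v = 0 := ⟨p ^ a, by rw [hnil]; rfl⟩
  obtain ⟨j, hj⟩ : ∃ j, Nat.find hex = j + 1 := Nat.exists_eq_succ_of_ne_zero fun h => by
    have := Nat.find_spec hex
    rw [h] at this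
    exact hv0 this
  have h1 := Nat.find_spec hex
  have h2 := Nat.find_min hex (m := j) (by omega)
  rw [hj, pow_succ', End.mul_apply, LinearMap.sub_apply, sub_eq_zero] at h1
  rw [← hsup', fix_sup, Submodule.ne_bot_iff]
  exact ⟨_, ⟨key j, mem_fix_zpowers.2 h1⟩, h2⟩

variable (ρ) in
/-- The ascending series of fixed points. -/
def ascFix : ℕ → Submodule k V
  | 0 => ⊥
  | n + 1 => ⨅ g : G, (ascFix n).comap (ρ g - 1)

omit [Finite G] in
theorem mem_ascFix_succ {n : ℕ} {v : V} :
    v ∈ ascFix ρ (n + 1) ↔ ∀ g, ρ g v - v ∈ ascFix ρ n := by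
  simp [ascFix, Submodule.mem_iInf]

omit [Finite G] in
theorem ascFix_le_succ (n : ℕ) : ascFix ρ n ≤ ascFix ρ (n + 1) := by
  induction n with
  | zero => exact bot_le
  | succ n ih => exact fun v hv => mem_ascFix_succ.2 fun g => ih (mem_ascFix_succ.1 hv g)

omit [Finite G] in
theorem rho_mem_ascFix {n : ℕ} (g : G) {v : V} (hv : v ∈ ascFix ρ n) : ρ g v ∈ ascFix ρ n := by
  cases n with
  | zero =>
    rw [(Submodule.mem_bot k).1 hv, map_zero]
    exact zero_mem _
  | succ n =>
    have := add_mem (ascFix_le_succ n (mem_ascFix_succ.1 hv g)) hv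
    rwa [sub_add_cancel] at this

theorem ascFix_lt_succ (hG : IsPGroup p G) {n : ℕ} (h : ascFix ρ n ≠ ⊤) :
    ascFix ρ n < ascFix ρ (n + 1) := by
  have : Nontrivial (V ⧸ ascFix ρ n) := Submodule.Quotient.nontrivial_iff.2 h
  let σ := ρ.quotient (ascFix ρ n) fun g v hv => rho_mem_ascFix g hv
  obtain ⟨w, hw, hw0⟩ := (Submodule.ne_bot_iff _).1
    (fix_ne_bot_of_charP (ρ := σ) (hG.to_subgroup ⊤))
  obtain ⟨v, rfl⟩ := Submodule.Quotient.mk_surjective _ w
  refine lt_of_le_of_ne (ascFix_le_succ n) fun h' => hw0 ?_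
  rw [Submodule.Quotient.mk_eq_zero, h', mem_ascFix_succ]
  intro g
  exact (Submodule.Quotient.eq _).1 (hw g trivial)

theorem ascFix_eq_top [FiniteDimensional k V] (hG : IsPGroup p G) {n : ℕ} (hn : finrank k V ≤ n) :
    ascFix ρ n = ⊤ := by
  have key : ∀ j, ascFix ρ j = ⊤ ∨ j ≤ finrank k (ascFix ρ j) := by
    intro j
    induction j with
    | zero => exact Or.inr (Nat.zero_le _)
    | succ j ih =>
      by_cases h : ascFix ρ j = ⊤
      · exact Or.inl (top_le_iff.1 (h ▸ ascFix_le_succ j))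
      · exact Or.inr ((ih.resolve_left h).trans_lt
          (Submodule.finrank_lt_finrank_of_lt (ascFix_lt_succ hG h)))
  rcases key n with h | h
  · exact h
  · exact Submodule.eq_top_of_finrank_eq (le_antisymm (Submodule.finrank_le _) (hn.trans h))

variable (ρ) in
/-- The elements lowering the series of fixed points by `j` steps. -/
def ascStab (j : ℕ) : Subgroup G where
  carrier := {g | ∀ i, ∀ v ∈ ascFix ρ (i + j), ρ g v - v ∈ ascFix ρ i}
  one_mem' := fun i v _ => by simp
  mul_mem' := fun {a b} ha hb i v hv => by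
    have := add_mem (ha i _ (rho_mem_ascFix b hv)) (hb i v hv)
    rwa [sub_add_sub_cancel, ← rho_mul_apply] at this
  inv_mem' := fun {a} ha i v hv => by
    have := neg_mem (ha i _ (rho_mem_ascFix a⁻¹ hv))
    rwa [← rho_mul_apply, mul_inv_cancel, map_one, End.one_apply, neg_sub] at this

omit [Finite G] in
theorem commutator_ascStab_le (a b : ℕ) : ⁅ascStab ρ a, ascStab ρ b⁆ ≤ ascStab ρ (a + b) := by
  rw [commutator_le]
  intro g hg h hh i v hv
  set u := ρ (g⁻¹ * h⁻¹) v with hu
  have hu' : u ∈ ascFix ρ (i + (a + b)) := rho_mem_ascFix _ hv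
  have h1 : ρ ⁅g, h⁆ v - v = (ρ g (ρ h u - u) - (ρ h u - u)) - (ρ h (ρ g u - u) - (ρ g u - u)) := by
    have h2 : ρ h (ρ g u) = v := by
      rw [hu, ← rho_mul_apply, ← rho_mul_apply]
      simp [mul_assoc]
    have h3 : ρ g (ρ h u) = ρ ⁅g, h⁆ v := by
      rw [hu, ← rho_mul_apply, ← rho_mul_apply, commutatorElement_def]
      simp [mul_assoc]
    rw [map_sub, map_sub, h2, h3]
    abel
  rw [h1]
  exact sub_mem (hg i _ (hh _ _ (by rwa [add_assoc])))
    (hh i _ (hg _ _ (by rwa [add_assoc, add_comm b])))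

theorem derivedSeries_le_ker_of_charP [FiniteDimensional k V] (hG : IsPGroup p G) {m : ℕ}
    (hm : finrank k V ≤ 2 ^ m) : derivedSeries G m ≤ ρ.ker := by
  have key : ∀ j, derivedSeries G j ≤ ascStab ρ (2 ^ j) := by
    intro j
    induction j with
    | zero => exact fun g _ i v hv => mem_ascFix_succ.1 hv g
    | succ j ih =>
      rw [derivedSeries_succ, pow_succ, mul_two]
      exact (commutator_mono ih ih).trans (commutator_ascStab_le _ _)
  intro g hg
  ext v
  have := key m hg 0 v (by rw [zero_add, ascFix_eq_top hG hm]; trivial)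
  exact sub_eq_zero.1 ((Submodule.mem_bot k).1 this)

end CharP

end Cfsg.Agent.Reg
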