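import Cfsg.Agent.Lib.PGrp.MaxClass
import Cfsg.Agent.Lib.Reg.LinDerived

/-!
Huppert's criterion for metacyclic `p`-groups (`p` odd), and `p`-groups whose elements of order
`p` are central.
-/

namespace Cfsg.Agent.Reg

open Subgroup
open scoped commutatorElement

universe u

variable {G : Type*} [Group G] [Finite G] {p : ℕ} [hp : Fact p.Prime]

omit [Finite G] in
theorem isMetacyclic_of_isCyclic [IsCyclic G] : Cfsg.IsMetacyclic G :=
  ⟨⊥, inferInstance, inferInstance,
    isCyclic_of_surjective _ (QuotientGroup.mk'_surjective ⊥)⟩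

/-- In a powerful `p`-group, `p` odd, `γ₃ ≤ (G') ^ p`. -/
theorem lowerCentralSeries_two_le_of_powerful (hp2 : p ≠ 2) (hG : IsPGroup p G)
    (h : commutator G ≤ powClosure p ⊤) :
    (⊤ : Subgroup G).lowerCentralSeries 2 ≤ powClosure p (commutator G) := by
  have := (hG.to_subgroup ⊤).isNilpotent
  refine lowerCentralSeries_le_of_le_sup_succ (by simp [normalizer_eq_top]) ?_
  set M := powClosure p (commutator G) ⊔ (⊤ : Subgroup G).lowerCentralSeries 3 with hM
  refine (commutator_mono h le_rfl).trans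
    (commutator_closure_left_le (fun _ _ => by simp [normalizer_eq_top]) ?_)
  rintro _ ⟨x, -, rfl⟩ g -
  let π := QuotientGroup.mk' M
  have h1 : ⁅x, g⁆ ∈ commutator G := commutator_mem_commutator (mem_top _) (mem_top _)
  have h2 : ∀ c ∈ commutator G, π c ^ p = 1 := fun c hc => by
    rw [← map_pow]
    exact (QuotientGroup.eq_one_iff _).2 (mem_sup_left (pow_mem_powClosure hc))
  have h3 : ∀ k, Commute ⁅π ⁅x, g⁆, π x⁻¹⁆ (π k) := fun k => by
    rw [← commutatorElement_eq_one_iff_commute, ← map_commutatorElement, ← map_commutatorElement]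
    exact (QuotientGroup.eq_one_iff _).2 (mem_sup_right (commutator_mem_commutator
      (commutator_mem_commutator h1 (mem_top _)) (mem_top _)))
  have h4 := PGrp.mul_pow_of_odd (hp.out.odd_of_ne_two hp2) (h3 _) (h3 _) (by
    rw [← map_commutatorElement]
    exact h2 _ (commutator_mem_commutator (mem_top _) (mem_top _)))
  rw [h2 _ h1, mul_one] at h4
  have h5 : ⁅x ^ p, g⁆ = x ^ p * (x⁻¹ * ⁅x, g⁆) ^ p := by
    rw [show x⁻¹ * ⁅x, g⁆ = g * x⁻¹ * g⁻¹ by simp [commutatorElement_def, mul_assoc], conj_pow,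
      commutatorElement_def, inv_pow]
    simp only [mul_assoc]
  rw [← QuotientGroup.eq_one_iff]
  change π _ = 1
  rw [h5, map_mul, map_pow, map_pow, map_mul, h4, ← map_pow, ← map_pow, ← map_mul, inv_pow,
    mul_inv_cancel, map_one]

/-- Huppert: for odd `p`, a `p`-group with `|G : G ^ p| ≤ p ^ 2` is metacyclic. -/
theorem isMetacyclic_of_index_powClosure_le (hp2 : p ≠ 2) (hG : IsPGroup p G)
    (h : (powClosure p (⊤ : Subgroup G)).index ≤ p ^ 2) : Cfsg.IsMetacyclic G := by
  by_cases hc : IsCyclic G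
  · exact isMetacyclic_of_isCyclic
  have h1 : commutator G ≤ powClosure p ⊤ := PGrp.lowerCentralSeries_le_of_index_le hG (i := 0) h
  have h2 : frattini G = powClosure p ⊤ :=
    le_antisymm (PGrp.frattini_le h1 fun x => pow_mem_powClosure (mem_top x))
      (powClosure_le_iff.2 fun x _ => PGrp.pow_mem_frattini hG x)
  have h3 : (frattini G).index = p ^ 2 := le_antisymm (h2 ▸ h) (PGrp.sq_le_index_frattini hG hc)
  obtain ⟨S, hS, hS'⟩ := PGrp.exists_generators_card_eq hG h3
  classical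
  obtain ⟨a, b, -, rfl⟩ := Finset.card_eq_two.1 hS
  rw [Finset.coe_pair] at hS'
  have hab : ⁅a, b⁆ ∈ commutator G := commutator_mem_commutator (mem_top _) (mem_top _)
  have h4 : zpowers ⁅a, b⁆ = commutator G := by
    refine PGrp.eq_of_sup_map_frattini (zpowers_le.2 hab) ?_
    have hn : (zpowers ⁅a, b⁆ ⊔ (⊤ : Subgroup G).lowerCentralSeries 2).Normal := ⟨fun n hn g => by
      have h5 : n ∈ commutator G := (sup_le (zpowers_le.2 hab)
        ((⊤ : Subgroup G).lowerCentralSeries_antitone (by omega : 1 ≤ 2))) hn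
      have := mul_mem hn (mem_sup_right (S := zpowers ⁅a, b⁆)
        (commutator_mem_commutator (inv_mem h5) (mem_top g)))
      simpa [commutatorElement_def, mul_assoc] using this⟩
    have h5 := commutator_closure_pair_le
      (N := zpowers ⁅a, b⁆ ⊔ (⊤ : Subgroup G).lowerCentralSeries 2) (x := a) (y := b)
      (by rw [normalizer_eq_top]; trivial) (by rw [normalizer_eq_top]; trivial)
      (mem_sup_left (mem_zpowers _))
    rw [hS'] at h5
    refine h5.trans (sup_le_sup_left ((lowerCentralSeries_two_le_of_powerful hp2 hG h1).trans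
      (powClosure_le_iff.2 fun x hx => PGrp.pow_mem_map_frattini (hG.to_subgroup _) hx)) _)
  have hr : PowRegOn p (⊤ : Subgroup G) := by
    have h5 : IsCyclic (commutator G) := h4 ▸ inferInstance
    simpa using powRegOn_of_isCyclic_commutator hp2 (hG.to_subgroup ⊤) h5 1
  have := (hG.to_subgroup ⊤).isNilpotent
  have : Nonempty {g : G // ⁅a, b⁆ ∈ zpowers g} := ⟨⟨_, mem_zpowers _⟩⟩
  obtain ⟨⟨g, hg⟩, hmax⟩ := Finite.exists_max
    (fun g : {g : G // ⁅a, b⁆ ∈ zpowers g} => orderOf g.1)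
  have hgΦ : g ∉ frattini G := by
    rw [h2]
    intro h5
    obtain ⟨z, -, rfl⟩ := hr.exists_pow_eq g h5
    have h6 := hmax ⟨z, zpowers_le.2 (pow_mem (mem_zpowers z) p) hg⟩
    have h7 : z = 1 := by
      obtain ⟨k, hk⟩ := IsPGroup.iff_orderOf.1 hG z
      rcases k with _ | k
      · exact orderOf_eq_one_iff.1 hk
      · simp only at h6
        rw [orderOf_pow_of_dvd hp.out.ne_zero (hk ▸ dvd_pow_self p k.succ_ne_zero), hk, pow_succ,
          Nat.mul_div_cancel _ hp.out.pos, ← pow_succ,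
          Nat.pow_le_pow_iff_right hp.out.one_lt] at h6
        omega
    subst h7
    have : Subsingleton G := ⟨fun x y => by
      have key : ∀ x : G, x = 1 := fun x => by
        have := hmax ⟨x, by
          rw [one_pow, zpowers_one_eq_bot, mem_bot] at hg
          rw [hg]
          exact one_mem _⟩
        simp only [one_pow, orderOf_one] at this
        exact orderOf_eq_one_iff.1 (le_antisymm this (orderOf_pos x))
      rw [key x, key y]⟩
    exact hc inferInstance
  have hn : (zpowers g).Normal := PGrp.normal_of_commutator_le (h4 ▸ zpowers_le.2 hg)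
  refine ⟨zpowers g, hn, inferInstance, ?_⟩
  rw [PGrp.isCyclic_iff_index_frattini_le (hG.to_quotient _), index_frattini_quotient hG]
  obtain ⟨k, hk⟩ := hG.index (frattini G ⊔ zpowers g)
  have h5 := index_strictAnti (left_lt_sup.2 fun h => hgΦ (h (mem_zpowers g)) :
    frattini G < frattini G ⊔ zpowers g)
  rw [h3, hk, Nat.pow_lt_pow_iff_right hp.out.one_lt] at h5
  rw [hk]
  exact (Nat.pow_le_pow_right hp.out.pos (by omega)).trans_eq (pow_one p)

theorem commutator_pow_eq_one_of_central (hp2 : p ≠ 2) (hG : IsPGroup p G)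
    (h : ∀ x : G, x ^ p = 1 → x ∈ center G) {x : G} (hx : x ^ p ∈ center G) (g : G) :
    ⁅g, x⁆ ^ p = 1 := by
  have := hG.isNilpotent
  have key : ∀ i, ∀ g ∈ Subgroup.upperCentralSeries G i, ⁅g, x⁆ ^ p = 1 := by
    intro i
    induction i with
    | zero =>
      intro g hg
      rw [mem_bot.1 hg, commutatorElement_one_left, one_pow]
    | succ i ih =>
      intro g hg
      have h1 := ih _ (Subgroup.mem_upperCentralSeries_succ_iff.1 hg x)
      have h2 : ⁅x, ⁅g, x⁆⁆ ^ p = 1 := by rw [← commutatorElement_inv, inv_pow, h1, inv_one]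
      have h3 := PGrp.mul_pow_of_odd (hp.out.odd_of_ne_two hp2)
        (PGrp.commute_of_mem_center (h _ h2) _) (PGrp.commute_of_mem_center (h _ h2) _) h2
      rw [show ⁅g, x⁆ * x = g * x * g⁻¹ by simp [commutatorElement_def], conj_pow,
        mem_center_iff.1 hx g, mul_inv_cancel_right] at h3
      exact (mul_eq_right.1 h3.symm)
  obtain ⟨n, hn⟩ := Group.IsNilpotent.nilpotent G
  exact key n g (hn ▸ mem_top g)

theorem isMetacyclic_of_central (hp2 : p ≠ 2) (G : Type u) [Group G] [Finite G] :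
    IsPGroup p G → (∀ x : G, x ^ p = 1 → x ∈ center G) → Nat.card {x : G // x ^ p = 1} ≤ p ^ 2 →
      Cfsg.IsMetacyclic G := by
  refine Core.induction_on_card (P := fun G _ _ => IsPGroup p G →
    (∀ x : G, x ^ p = 1 → x ∈ center G) → Nat.card {x : G // x ^ p = 1} ≤ p ^ 2 →
      Cfsg.IsMetacyclic G) ?_ G
  intro G _ _ ih hG h hc
  rcases subsingleton_or_nontrivial G with hs | hs
  · exact isMetacyclic_of_isCyclic
  let Ω : Subgroup G :=
    { carrier := {x | x ^ p = 1}
      one_mem' := one_pow p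
      mul_mem' := fun {a b} ha hb => by
        change (a * b) ^ p = 1
        rw [(PGrp.commute_of_mem_center (h a ha) b).mul_pow, ha, hb, one_mul]
      inv_mem' := fun {a} ha => by
        change a⁻¹ ^ p = 1
        rw [inv_pow, ha, inv_one] }
  have hΩ : Ω.Normal := PGrp.normal_of_le_center h
  have hΩ1 : Ω ≠ ⊥ := by
    obtain ⟨x, -, hx⟩ := PGrp.exists_orderOf_eq_prime_of_ne_bot (hG.to_subgroup ⊤) top_ne_bot
    intro e
    have : x ∈ Ω := orderOf_dvd_iff_pow_eq_one.1 hx.dvd
    rw [e, mem_bot] at this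
    rw [this, orderOf_one] at hx
    exact hp.out.one_lt.ne hx
  have hq : ∀ x : G, (x : G ⧸ Ω) ^ p = 1 → x ^ p ∈ center G := fun x hx =>
    h _ ((QuotientGroup.eq_one_iff (N := Ω) _).1 hx)
  obtain ⟨N, hN, hN1, hN2⟩ := ih (G ⧸ Ω) (Core.card_quotient_lt hΩ1) (hG.to_quotient Ω)
    (fun x hx => by
      obtain ⟨x, rfl⟩ := QuotientGroup.mk_surjective x
      refine mem_center_iff.2 fun g => ?_
      obtain ⟨g, rfl⟩ := QuotientGroup.mk_surjective g
      rw [← commutatorElement_eq_one_iff_mul_comm]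
      exact (QuotientGroup.eq_one_iff (N := Ω) ⁅g, x⁆).2
        (commutator_pow_eq_one_of_central hp2 hG h (hq x hx) g))
    (le_trans (Nat.card_le_card_of_injective (fun x => (⟨x.1.out ^ p,
        (QuotientGroup.eq_one_iff (N := Ω) _).1 (by simpa using x.2)⟩ : {x : G // x ^ p = 1}))
      fun a b hab => by
        have h1 : a.1.out ^ p = b.1.out ^ p := congrArg Subtype.val hab
        have h2 := commutator_pow_eq_one_of_central hp2 hG h (x := a.1.out⁻¹)
          (by rw [inv_pow]; exact inv_mem (hq _ (by simpa using a.2))) b.1.out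
        have h3 := PGrp.mul_pow_of_odd (hp.out.odd_of_ne_two hp2)
          (PGrp.commute_of_mem_center (h _ h2) _) (PGrp.commute_of_mem_center (h _ h2) _) h2
        rw [inv_pow, h1, inv_mul_cancel] at h3
        refine Subtype.ext ?_
        rw [← a.1.out_eq', ← b.1.out_eq', QuotientGroup.eq]
        exact h3) hc)
  obtain ⟨a, ha⟩ := (Subgroup.isCyclic_iff_exists_zpowers_eq_top N).1 hN1
  obtain ⟨a, rfl⟩ := QuotientGroup.mk_surjective a
  obtain ⟨b, hb⟩ := hN2.exists_generator
  obtain ⟨b, rfl⟩ := QuotientGroup.mk_surjective b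
  obtain ⟨b, rfl⟩ := QuotientGroup.mk_surjective b
  have hA : ∀ g : G, (g : G ⧸ Ω) ∈ N → ∃ (i : ℤ) (ω : G), ω ∈ center G ∧ g = a ^ i * ω := by
    intro g hg
    rw [← ha] at hg
    obtain ⟨i, hi⟩ := mem_zpowers_iff.1 hg
    exact ⟨i, _, h _ (QuotientGroup.eq.1 hi), (mul_inv_cancel_left _ _).symm⟩
  have hgen : ∀ g : G, ∃ (i j : ℤ) (ω : G), ω ∈ center G ∧ g = b ^ j * (a ^ i * ω) := by
    intro g
    obtain ⟨j, hj⟩ := mem_zpowers_iff.1 (hb ((g : G ⧸ Ω) : (G ⧸ Ω) ⧸ N))
    obtain ⟨i, ω, h1, h2⟩ := hA ((b ^ j)⁻¹ * g) (QuotientGroup.eq.1 hj)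
    exact ⟨i, j, ω, h1, by rw [← h2, mul_inv_cancel_left]⟩
  obtain ⟨k, ω, hω, hk⟩ := hA ⁅b, a⁆ (by
    have h1 : (a : G ⧸ Ω) ∈ N := ha ▸ mem_zpowers _
    exact N.mul_mem (hN.conj_mem _ h1 b) (N.inv_mem h1))
  have hca : Commute ⁅b, a⁆ a := by
    rw [hk]
    exact ((Commute.refl a).zpow_left k).mul_left (PGrp.commute_of_mem_center hω a)
  have hn : (zpowers ⁅b, a⁆).Normal := by
    rw [← normalizer_eq_top_iff, eq_top_iff]
    intro g _
    obtain ⟨i, j, ω', hω', rfl⟩ := hgen g
    have key : ∀ x : G, Commute ⁅b, a⁆ x → x ∈ normalizer (zpowers ⁅b, a⁆ : Set G) := fun x hx =>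
      centralizer_le_normalizer _ (by
        rw [PGrp.centralizer_zpowers]; exact mem_centralizer_singleton_iff.2 hx.symm.eq)
    refine mul_mem (zpow_mem (mem_normalizer_fintype ?_) j) (mul_mem (zpow_mem (key _ hca) i)
      (key _ (PGrp.commute_of_mem_center hω' _).symm))
    rintro _ ⟨m, rfl⟩
    have h1 : b * ⁅b, a⁆ * b⁻¹ = ⁅b, a⁆ ^ (k + 1) := by
      conv_lhs => rw [hk]
      rw [← mul_assoc, mul_assoc _ ω, ← mem_center_iff.1 hω b⁻¹, ← mul_assoc, ← conj_zpow,
        show b * a * b⁻¹ = ⁅b, a⁆ * a by simp [commutatorElement_def], hca.mul_zpow, mul_assoc,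
        ← hk, zpow_add_one]
    simp only
    rw [← conj_zpow, h1]
    exact zpow_mem (zpow_mem (mem_zpowers _) _) _
  have hle : commutator G ≤ zpowers ⁅b, a⁆ := by
    rw [← PGrp.isMulCommutative_quotient_iff]
    refine ⟨⟨fun x y => ?_⟩⟩
    let π := QuotientGroup.mk' (zpowers ⁅b, a⁆)
    obtain ⟨x, rfl⟩ := QuotientGroup.mk'_surjective _ x
    obtain ⟨y, rfl⟩ := QuotientGroup.mk'_surjective _ y
    obtain ⟨i, j, ω₁, h1, rfl⟩ := hgen x
    obtain ⟨i', j', ω₂, h2, rfl⟩ := hgen y
    have h3 : Commute (π b) (π a) := by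
      rw [← commutatorElement_eq_one_iff_commute, ← map_commutatorElement]
      exact (QuotientGroup.eq_one_iff _).2 (mem_zpowers _)
    have h4 := fun g => (PGrp.commute_of_mem_center h1 g).map π
    have h5 := fun g => (PGrp.commute_of_mem_center h2 g).symm.map π
    change Commute (π _) (π _)
    rw [map_mul, map_mul]
    refine Commute.mul_left ?_ (Commute.mul_left ?_ (h4 _)) <;>
      rw [map_mul, map_mul] <;> refine Commute.mul_right ?_ (Commute.mul_right ?_ (h5 _)) <;>
      simp only [map_zpow]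
    exacts [(Commute.refl _).zpow_zpow _ _, h3.zpow_zpow _ _, h3.symm.zpow_zpow _ _,
      (Commute.refl _).zpow_zpow _ _]
  have hr : PowRegOn p (⊤ : Subgroup G) := by
    simpa using powRegOn_of_isCyclic_commutator hp2 (hG.to_subgroup ⊤) (isCyclic_of_le hle) 1
  have := (hG.to_subgroup ⊤).isNilpotent
  refine isMetacyclic_of_index_powClosure_le hp2 hG (le_trans (le_of_eq ?_) hc)
  have h1 := hr.card_omega_mul_card_powClosure
  rw [card_top, ← (powClosure p (⊤ : Subgroup G)).index_mul_card] at h1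
  rw [← Nat.eq_of_mul_eq_mul_right Nat.card_pos h1]
  exact Nat.card_congr (Equiv.subtypeEquivRight fun x => by simp [PowRegOn.mem_omega])

end Cfsg.Agent.Reg
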