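import Cfsg.Agent.Lib.PGrp.Symplectic
import Cfsg.Agent.Lib.Reg.Huppert

/-!
Blackburn's classification of the `p`-groups of rank two, `p` odd: the local analysis.
-/

namespace Cfsg.Agent.Reg

open Subgroup
open scoped commutatorElement

variable {G : Type*} [Group G]

theorem exists_zpow_mul_zpow {a b x : G} (h : Commute a b) (hx : x ∈ zpowers a ⊔ zpowers b) :
    ∃ i j : ℤ, x = a ^ i * b ^ j := by
  let K : Subgroup G :=
    { carrier := {x | ∃ i j : ℤ, x = a ^ i * b ^ j}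
      one_mem' := ⟨0, 0, by simp⟩
      mul_mem' := by
        rintro _ _ ⟨i, j, rfl⟩ ⟨k, l, rfl⟩
        exact ⟨i + k, j + l, by
          rw [zpow_add, zpow_add, (h.zpow_zpow k j).symm.mul_mul_mul_comm]⟩
      inv_mem' := by
        rintro _ ⟨i, j, rfl⟩
        exact ⟨-i, -j, by rw [mul_inv_rev, zpow_neg, zpow_neg, (h.zpow_zpow i j).inv_inv.eq]⟩ }
  exact (sup_le (zpowers_le.2 ⟨1, 0, by simp⟩) (zpowers_le.2 ⟨0, 1, by simp⟩) :
    zpowers a ⊔ zpowers b ≤ K) hx

theorem conj_pow_pow_eq {x e ζ : G} (hζ : ζ ∈ center G) (h : x⁻¹ * e * x = e * ζ) (a r : ℕ) :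
    (x ^ a)⁻¹ * e ^ r * x ^ a = e ^ r * ζ ^ (a * r) := by
  have h1 : (x ^ a)⁻¹ * e * x ^ a = e * ζ ^ a := by
    induction a with
    | zero => simp
    | succ a ih =>
      calc _ = x⁻¹ * ((x ^ a)⁻¹ * e * x ^ a) * x := by rw [pow_succ]; group
        _ = x⁻¹ * e * x * ζ ^ a := by
          rw [ih, mul_assoc _ x, mem_center_iff.1 (pow_mem hζ a) x]; group
        _ = _ := by rw [h, pow_succ', mul_assoc]
  have h2 := conj_pow (i := r) (a := (x ^ a)⁻¹) (b := e)
  rw [inv_inv] at h2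
  rw [← h2, h1, (PGrp.commute_of_mem_center (pow_mem hζ a) e).symm.mul_pow, pow_mul]

/-- A normal subgroup `E` of type `(p, p)`, not central, containing all the elements of order `p`
of its centralizer. -/
structure R2 (p : ℕ) (E : Subgroup G) : Prop where
  odd : p ≠ 2
  pg : IsPGroup p G
  normal : E.Normal
  elem : IsElementaryAbelian p E
  card : Nat.card E = p ^ 2
  omega : ∀ c ∈ centralizer (E : Set G), c ^ p = 1 → c ∈ E
  ncen : ¬ E ≤ center G

variable [Finite G] {p : ℕ} [hp : Fact p.Prime] {E : Subgroup G}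

theorem isMetacyclic_centralizer (hp2 : p ≠ 2) (hG : IsPGroup p G) (hE : Nat.card E ≤ p ^ 2)
    (h : ∀ c ∈ centralizer (E : Set G), c ^ p = 1 → c ∈ E) :
    Cfsg.IsMetacyclic (centralizer (E : Set G)) := by
  have h1 : ∀ x : centralizer (E : Set G), x ^ p = 1 → (x : G) ∈ E := fun x hx =>
    h x x.2 (congrArg Subtype.val hx)
  exact isMetacyclic_of_central hp2 _ (hG.to_subgroup _)
    (fun x hx => mem_center_iff.2 fun g => Subtype.ext (g.2 x (h1 x hx)).symm)
    ((Nat.card_le_card_of_injective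
      (fun x : {x : centralizer (E : Set G) // x ^ p = 1} => (⟨x.1.1, h1 x.1 x.2⟩ : E)) fun a b hab =>
      Subtype.ext (Subtype.ext (congrArg (fun x : E => (x : G)) hab))).trans hE)

namespace R2

variable (h : R2 p E)
include h

omit [Finite G] hp in
theorem le : E ≤ centralizer (E : Set G) := le_centralizer_iff_isMulCommutative.2 h.elem.1

theorem index : (centralizer (E : Set G)).index = p :=
  have := h.normal
  PGrp.index_centralizer_eq_of_card_sq h.pg h.card h.ncen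

theorem eq_top {K : Subgroup G} (hK : centralizer (E : Set G) ≤ K) {t : G}
    (ht : t ∉ centralizer (E : Set G)) (htK : t ∈ K) : K = ⊤ :=
  (PGrp.isCoatom_of_index_eq h.index).2 _ (lt_of_le_of_ne hK fun e => ht (e ▸ htK))

theorem mem_center {t e : G} (ht : t ∉ centralizer (E : Set G)) (he : e ∈ E) (hc : e * t = t * e) :
    e ∈ center G := by
  have := h.eq_top (K := centralizer {e})
    (fun c hc => mem_centralizer_singleton_iff.2 (hc e he).symm) ht
    (mem_centralizer_singleton_iff.2 hc.symm)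
  exact mem_center_iff.2 fun g => mem_centralizer_singleton_iff.1 (this ▸ mem_top g)

theorem card_inf_center_le : Nat.card ↥(E ⊓ center G) ≤ p := by
  have h1 := PGrp.mul_card_dvd_of_lt (h.pg.to_subgroup E) (inf_lt_left.2 h.ncen)
  rw [h.card, sq] at h1
  exact Nat.le_of_dvd hp.out.pos (Nat.dvd_of_mul_dvd_mul_right hp.out.pos h1)

theorem mem_zpowers {ζ e : G} (h1 : ζ ∈ E) (h2 : ζ ∈ center G) (h3 : ζ ≠ 1) (he : e ∈ E)
    (he' : e ∈ center G) : ∃ k : ℕ, e = ζ ^ k := by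
  have h4 : zpowers ζ = E ⊓ center G := eq_of_le_of_card_ge (zpowers_le.2 ⟨h1, h2⟩) (by
    rw [Nat.card_zpowers, orderOf_eq_prime (h.elem.2 ζ h1) h3]
    exact h.card_inf_center_le)
  obtain ⟨k, hk⟩ := mem_powers_iff_mem_zpowers.2 (h4 ▸ ⟨he, he'⟩ : e ∈ zpowers ζ)
  exact ⟨k, hk.symm⟩

theorem eq_sup {ζ y : G} (h1 : ζ ∈ E) (h2 : ζ ∈ center G) (h3 : ζ ≠ 1) (hy : y ∈ E)
    (hy' : y ∉ center G) : zpowers ζ ⊔ zpowers y = E := by
  have := PGrp.normal_of_le_center (zpowers_le.2 h2)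
  refine eq_of_le_of_card_ge (sup_le (zpowers_le.2 h1) (zpowers_le.2 hy)) ?_
  rw [PGrp.card_sup_zpowers (p := p) (by rw [normalizer_eq_top]; trivial)
    (fun e => hy' (zpowers_le.2 h2 e)) (by rw [h.elem.2 y hy]; exact one_mem _), Nat.card_zpowers,
    orderOf_eq_prime (h.elem.2 ζ h1) h3, h.card, sq]

theorem commutator_mem {e : G} (he : e ∈ E) (g : G) : ⁅e, g⁆ ∈ E ⊓ center G :=
  have := h.normal
  ⟨commutator_le_left E ⊤ (commutator_mem_commutator he (mem_top g)),
    commutator_mem_center_of_card_le_sq h.pg h.card.le he g⟩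

theorem reg : PowRegOn p (centralizer (E : Set G)) := by
  simpa using powRegOn_of_isMetacyclic' h.odd (h.pg.to_subgroup _)
    (isMetacyclic_centralizer h.odd h.pg h.card.le h.omega) 1

theorem card_powClosure :
    Nat.card (powClosure p (centralizer (E : Set G))) * p ^ 2 =
      Nat.card (centralizer (E : Set G)) := by
  have := (h.pg.to_subgroup (centralizer (E : Set G))).isNilpotent
  have h1 : h.reg.omega = E :=
    le_antisymm (fun c hc => h.omega c hc.1 hc.2) fun e he => ⟨h.le he, h.elem.2 e he⟩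
  rw [← h.reg.card_omega_mul_card_powClosure, h1, h.card, mul_comm]

theorem card_centralizer_le {t c y u : G} (ht : t ∉ centralizer (E : Set G))
    (hc : c ∈ centralizer (E : Set G)) (htc : t ^ p = c ^ p) (hy : y ∈ E) (hy' : y ∉ center G)
    (hu : u ∈ centralizer (E : Set G)) (huy : y = u ^ p) :
    p = 3 ∧ Nat.card (centralizer ({t} : Set G)) ≤ p ^ 2 := by
  have := (h.pg.to_subgroup (centralizer (E : Set G))).isNilpotent
  have := h.normal
  set C := centralizer (E : Set G) with hC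
  let σ := MulAut.conj t
  have hσ : ∀ g ∈ C, σ g ∈ C := fun g hg => Normal.conj_mem inferInstance g hg t
  have hd : ∀ g ∈ C, g⁻¹ * σ g ∈ C := fun g hg => mul_mem (inv_mem hg) (hσ g hg)
  have hdE : ∀ e ∈ E, e⁻¹ * σ e ∈ E ⊓ center G := fun e he => by
    simpa [σ, commutatorElement_def, mul_assoc] using h.commutator_mem (inv_mem he) t
  have hdp : ∀ g ∈ C, g ^ p ∈ E → (g⁻¹ * σ g) ^ p = (g ^ p)⁻¹ * σ (g ^ p) := fun g hg hgp => by
    rw [h.reg.mul_pow_of_commute (inv_mem hg) (hσ g hg), inv_pow, map_pow]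
    rw [inv_pow]
    exact Commute.inv_left (hσ g hg _ hgp)
  have hfix : ∀ z ∈ center G, σ z = z := fun z hz => by
    simp [σ, mem_center_iff.1 hz t]
  set v := u⁻¹ * σ u with hv
  set w := v⁻¹ * σ v with hw
  set w' := w⁻¹ * σ w with hw'
  have hvC : v ∈ C := hd u hu
  have hζ : v ^ p = y⁻¹ * σ y := by rw [hv, hdp u hu (huy ▸ hy), huy]
  have hζE : v ^ p ∈ E ⊓ center G := hζ ▸ hdE y hy
  have hζ1 : v ^ p ≠ 1 := fun e => hy' (h.mem_center ht hy (by
    rw [hζ, inv_mul_eq_one] at e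
    exact eq_mul_inv_iff_mul_eq.1 e))
  have hwE : w ∈ E := h.omega w (hd v hvC) (by
    rw [hw, hdp v hvC hζE.1, hfix _ hζE.2, inv_mul_cancel])
  have hw'E : w' ∈ E ⊓ center G := hdE w hwE
  have hvw : Commute v w := (hvC w hwE).symm
  have key : ∀ i : ℕ, (σ ^ i) u = u * v ^ i * w ^ i.choose 2 * w' ^ i.choose 3 := by
    intro i
    induction i with
    | zero => simp
    | succ i ih =>
      have e1 : σ u = u * v := by rw [hv, mul_inv_cancel_left]
      have e2 : σ v = v * w := by rw [hw, mul_inv_cancel_left]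
      have e3 : σ w = w * w' := by rw [hw', mul_inv_cancel_left]
      rw [pow_succ', MulAut.mul_apply, ih, map_mul, map_mul, map_mul, map_pow, map_pow, map_pow,
        e1, e2, e3, hfix _ hw'E.2, hvw.mul_pow,
        (PGrp.commute_of_mem_center hw'E.2 w).symm.mul_pow, Nat.choose_succ_succ' i 1,
        Nat.choose_succ_succ' i 2, Nat.choose_one_right, pow_succ' v, pow_add w, pow_add w']
      simp only [mul_assoc]
  have h1 : (σ ^ p) u = u := by
    have h2 : Commute (c ^ p) u := by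
      rw [h.reg.commute_pow_iff hc hu, ← commutatorElement_inv, inv_pow, inv_eq_one,
        ← h.reg.commute_pow_iff hu hc, ← huy]
      exact hc y hy
    rw [← map_pow, htc, MulAut.conj_apply, h2.eq, mul_inv_cancel_right]
  have hp2 : 2 < p := lt_of_le_of_ne hp.out.two_le h.odd.symm
  rw [key, orderOf_dvd_iff_pow_eq_one.1 ((orderOf_dvd_of_pow_eq_one (h.elem.2 w hwE)).trans
    (hp.out.dvd_choose_self two_ne_zero hp2)), mul_one, mul_assoc, mul_eq_left] at h1
  have h3 : p = 3 := by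
    by_contra h3
    rw [orderOf_dvd_iff_pow_eq_one.1 ((orderOf_dvd_of_pow_eq_one (h.elem.2 w' hw'E.1)).trans
      (hp.out.dvd_choose_self three_ne_zero (by omega))), mul_one] at h1
    exact hζ1 h1
  have hwZ : w ∉ center G := fun e => by
    rw [hw', hfix w e, inv_mul_cancel, one_pow, mul_one] at h1
    exact hζ1 h1
  have h4 : ∀ g ∈ C, σ g = g → g ^ p = 1 := by
    have h5 : ∀ g ∈ C, σ g = g → (g ^ p) ^ p = 1 → g ^ p = 1 := by
      intro g hg hσg hgp
      have h6 : g ^ p ∈ E := h.omega _ (pow_mem hg p) hgp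
      have h7 : g ^ p ∈ center G := h.mem_center ht h6 (by
        have : σ (g ^ p) = g ^ p := by rw [map_pow, hσg]
        exact (mul_inv_eq_iff_eq_mul.1 this).symm)
      obtain ⟨j, hj⟩ := h.mem_zpowers hζE.1 hζE.2 hζ1 h6 h7
      by_contra h8
      have hj' : p.Coprime j := hp.out.coprime_iff_not_dvd.2 fun e => h8 (by
        rw [hj]
        exact orderOf_dvd_iff_pow_eq_one.1
          ((orderOf_dvd_of_pow_eq_one (h.elem.2 _ hζE.1)).trans e))
      have h9 : (v ^ j)⁻¹ * g ∈ E := h.omega _ (mul_mem (inv_mem (pow_mem hvC j)) hg)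
        ((h.reg.pow_eq_pow_iff' (pow_mem hvC j) hg).1 (by rw [hj, ← pow_mul, ← pow_mul, mul_comm]))
      have h10 := (mem_inf.1 (hdE _ h9)).2
      have e2 : σ v = v * w := by rw [hw, mul_inv_cancel_left]
      rw [map_mul, map_inv, map_pow, hσg, e2, hvw.mul_pow, (hvw.pow_pow j j).eq,
        show ((v ^ j)⁻¹ * g)⁻¹ * ((w ^ j * v ^ j)⁻¹ * g) = g⁻¹ * (w ^ j)⁻¹ * g by group,
        mul_assoc, hg _ (inv_mem (pow_mem hwE j)), inv_mul_cancel_left, inv_mem_iff] at h10
      refine hwZ (zpowers_le.2 h10 (mem_zpowers_pow_iff.2 ?_))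
      rw [orderOf_eq_prime (h.elem.2 w hwE) fun e => hwZ (e ▸ one_mem _)]
      exact hj'.symm
    intro g hg hσg
    obtain ⟨k, hk⟩ := h.pg g
    induction k with
    | zero =>
      rw [pow_zero, pow_one] at hk
      rw [hk, one_pow]
    | succ k ih =>
      rcases k with _ | k
      · simpa using hk
      · refine ih ?_
        rw [pow_succ, pow_mul]
        exact h5 _ (pow_mem hg _) (by rw [map_pow, hσg])
          (by rw [← hk, ← pow_mul, ← pow_mul, pow_succ, pow_succ, mul_assoc])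
  refine ⟨h3, ?_⟩
  have h5 : C ⊓ centralizer {t} ≤ E ⊓ center G := fun g hg => by
    have h6 := mem_centralizer_singleton_iff.1 hg.2
    have h7 := h.omega g hg.1 (h4 g hg.1 (by simp [σ, ← h6]))
    exact ⟨h7, h.mem_center ht h7 h6⟩
  rw [← PGrp.card_inf_mul_relIndex C, sq]
  refine Nat.mul_le_mul ((card_le_of_le h5).trans h.card_inf_center_le) ?_
  exact (Nat.le_of_dvd (h.index ▸ hp.out.pos) (relIndex_dvd_index_of_normal C _)).trans h.index.le

theorem exists_gen {n : ℕ} (hn : Nat.card G = p ^ n) {y : G} (hy : y ∈ E) (hy' : y ∉ center G)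
    (hyΦ : y ∉ powClosure p (centralizer (E : Set G))) :
    ∃ (m : ℕ) (z : G), n = m + 3 ∧ zpowers z ⊔ zpowers y = centralizer (E : Set G) ∧
      orderOf z = p ^ (m + 1) ∧ z ^ p ^ m ∈ center G ∧
      zpowers (z ^ p) = powClosure p (centralizer (E : Set G)) := by
  have := h.normal
  set C := centralizer (E : Set G) with hC
  obtain ⟨m, hm⟩ := PGrp.exists_card_eq_pow h.pg (powClosure p C)
  have h1 := h.card_powClosure
  have h2 := C.card_mul_index
  rw [h.index, hn, ← h1, hm, ← pow_add, ← pow_succ, Nat.pow_right_inj hp.out.one_lt] at h2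
  have hyp := h.elem.2 y hy
  rcases m with _ | m
  · rw [hm, pow_zero, one_mul, ← h.card] at h1
    have h3 : E = C := eq_of_le_of_card_ge h.le h1.ge
    obtain ⟨z, hz, hzc, hzo⟩ := PGrp.exists_mem_center_orderOf_eq h.pg (N := E) fun e =>
      h.ncen (e ▸ bot_le)
    have hz1 : z ≠ 1 := fun e => hp.out.one_lt.ne (by rw [← hzo, e, orderOf_one])
    refine ⟨0, z, h2.symm, (h.eq_sup hz hzc hz1 hy hy').trans h3, by simpa using hzo,
      by simpa using hzc, ?_⟩
    rw [h.elem.2 z hz, zpowers_one_eq_bot, eq_comm, ← card_eq_one, hm, pow_zero]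
  have h3 := PGrp.card_sup_zpowers (p := p) (H := powClosure p C) (y := y)
    (by rw [normalizer_eq_top]; trivial) hyΦ (by rw [hyp]; exact one_mem _)
  have h4 : powClosure p C ⊔ zpowers y ≤ C := sup_le (powClosure_le p C) (zpowers_le.2 (h.le hy))
  obtain ⟨z, hz, hz'⟩ := SetLike.exists_of_lt (lt_of_le_of_ne h4 fun e => by
    rw [e, ← h1, sq, Nat.mul_right_inj Nat.card_pos.ne'] at h3
    have := hp.out.one_lt
    nlinarith)
  have hzy : Commute z y := (hz y hy).symm
  have h5 := PGrp.card_sup_zpowers (p := p) (y := z) (mem_normalizer_fintype (by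
    have : powClosure p C ⊔ zpowers y ≤
        (powClosure p C ⊔ zpowers y).comap (MulAut.conj z).toMonoidHom :=
      sup_le (fun g hg => mem_sup_left (Normal.conj_mem inferInstance g hg z)) (zpowers_le.2 (by
        change z * y * z⁻¹ ∈ powClosure p C ⊔ zpowers y
        rw [hzy.eq, mul_inv_cancel_right]
        exact mem_sup_right (Subgroup.mem_zpowers y)))
    exact fun g hg => this hg)) hz' (mem_sup_left (pow_mem_powClosure hz))
  rw [h3, mul_assoc, ← sq, h1] at h5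
  have h6 : zpowers z ⊔ zpowers y = C := by
    refine PGrp.eq_of_sup_map_frattini (sup_le (zpowers_le.2 hz) (zpowers_le.2 (h.le hy))) ?_
    refine (eq_of_le_of_card_ge (sup_le h4 (zpowers_le.2 hz)) h5.ge).ge.trans ?_
    exact sup_le (sup_le (le_sup_of_le_right (powClosure_le_iff.2 fun x hx =>
      PGrp.pow_mem_map_frattini (h.pg.to_subgroup _) hx))
      (le_sup_of_le_left le_sup_right)) (le_sup_of_le_left le_sup_left)
  have h7 : zpowers (z ^ p) = powClosure p C := by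
    refine le_antisymm (zpowers_le.2 (pow_mem_powClosure hz)) (powClosure_le_iff.2 fun x hx => ?_)
    obtain ⟨i, j, rfl⟩ := exists_zpow_mul_zpow hzy (h6.symm ▸ hx)
    rw [(hzy.zpow_zpow i j).mul_pow, ← zpow_natCast (z ^ i), ← zpow_natCast (y ^ j), ← zpow_mul,
      ← zpow_mul, mul_comm i, mul_comm j, zpow_mul, zpow_mul, zpow_natCast, zpow_natCast, hyp,
      one_zpow, mul_one]
    exact zpow_mem (Subgroup.mem_zpowers _) i
  have h8 : orderOf (z ^ p) = p ^ (m + 1) := by rw [← Nat.card_zpowers, h7, hm]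
  have h9 : (zpowers (z ^ p)).Normal := h7 ▸ inferInstance
  refine ⟨m + 1, z, h2.symm, h6, ?_, ?_, h7⟩
  · obtain ⟨k, hk⟩ := IsPGroup.iff_orderOf.1 h.pg z
    rcases k with _ | k
    · rw [pow_zero, orderOf_eq_one_iff] at hk
      exact absurd (hk ▸ one_mem _) hz'
    · rw [orderOf_pow_of_dvd hp.out.ne_zero (hk ▸ dvd_pow_self p k.succ_ne_zero), hk, pow_succ,
        Nat.mul_div_cancel _ hp.out.pos] at h8
      rw [hk, pow_succ, h8, ← pow_succ]
  · rw [pow_succ', pow_mul]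
    exact (PGrp.pow_mem_center_of_normal h.pg h8).2

variable {m : ℕ} {y z : G} (hy : y ∈ E) (hy' : y ∉ center G)
  (hC : zpowers z ⊔ zpowers y = centralizer (E : Set G)) (hz : orderOf z = p ^ (m + 1))
  (hζ : z ^ p ^ m ∈ center G) (hΦ : zpowers (z ^ p) = powClosure p (centralizer (E : Set G)))

section Gen
include hC hz

omit [Finite G] hp h hz in
theorem z_mem : z ∈ centralizer (E : Set G) := hC ▸ mem_sup_left (Subgroup.mem_zpowers z)

omit [Finite G] h hC in
theorem zeta_ne : z ^ p ^ m ≠ 1 := fun e => by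
  have := orderOf_dvd_of_pow_eq_one e
  rw [hz, Nat.pow_dvd_pow_iff_le_right hp.out.one_lt] at this
  omega

omit [Finite G] hp in
theorem zeta_mem : z ^ p ^ m ∈ E :=
  h.omega _ (pow_mem (z_mem hC) _) (by rw [← pow_mul, ← pow_succ, ← hz, pow_orderOf_eq_one])

include hζ hΦ in
theorem reg_sup (hm : m ≠ 0) (x : G) : PowRegOn p ((zpowers (z ^ p) ⊔ E) ⊔ zpowers x) := by
  have := h.normal
  have hN : (zpowers (z ^ p)).Normal := hΦ ▸ inferInstance
  have hn : ∀ K : Subgroup G, K ≤ normalizer (zpowers (z ^ p) : Set G) := fun K => by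
    rw [normalizer_eq_top]; exact le_top
  have h1 : ⁅zpowers (z ^ p) ⊔ E, ⊤⁆ ≤ zpowers (z ^ p) := by
    refine commutator_sup_left_le (hn _) (hn _) (commutator_le_left _ _)
      (commutator_le.2 fun e he g _ => ?_)
    obtain ⟨k, hk⟩ := h.mem_zpowers (h.zeta_mem hC hz) hζ (zeta_ne hz) (h.commutator_mem he g).1
      (h.commutator_mem he g).2
    obtain ⟨m, rfl⟩ := Nat.exists_eq_succ_of_ne_zero hm
    rw [hk, pow_succ', pow_mul]
    exact pow_mem (pow_mem (Subgroup.mem_zpowers _) _) _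
  have h2 : ⁅(zpowers (z ^ p) ⊔ E) ⊔ zpowers x, (zpowers (z ^ p) ⊔ E) ⊔ zpowers x⁆ ≤
      zpowers (z ^ p) :=
    commutator_sup_left_le (hn _) (hn _) ((commutator_mono le_rfl le_top).trans h1)
      (commutator_sup_right_le (hn _) (hn _)
        (by rw [commutator_comm]; exact (commutator_mono le_rfl le_top).trans h1)
        ((commutator_eq_bot_iff_le_centralizer.2 (le_centralizer _)).le.trans bot_le))
  simpa using powRegOn_of_isCyclic_commutator h.odd (h.pg.to_subgroup _) (isCyclic_of_le h2) 1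

include hy hζ hΦ in
theorem exists_pow_eq_one {t c : G} (ht : t ∉ centralizer (E : Set G))
    (hc : c ∈ centralizer (E : Set G)) (htc : t ^ p = c ^ p) :
    (∃ x, x ∉ centralizer (E : Set G) ∧ x ^ p = 1) ∨
      (p = 3 ∧ m = 1 ∧ (⊤ : Subgroup G).lowerCentralSeries 2 ≠ ⊥) := by
  have := h.normal
  have hzy : Commute z y := (z_mem hC y hy).symm
  have hcomm : ∀ a ∈ centralizer (E : Set G), ∀ b ∈ centralizer (E : Set G), Commute a b := by
    intro a ha b hb
    obtain ⟨i, j, rfl⟩ := exists_zpow_mul_zpow hzy (hC.symm ▸ ha)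
    obtain ⟨k, l, rfl⟩ := exists_zpow_mul_zpow hzy (hC.symm ▸ hb)
    exact (((Commute.refl z).zpow_zpow _ _).mul_right (hzy.zpow_zpow _ _)).mul_left
      ((hzy.symm.zpow_zpow _ _).mul_right ((Commute.refl y).zpow_zpow _ _))
  rcases m with _ | m
  · refine Or.inl ⟨t, ht, ?_⟩
    have h1 : z ^ p = 1 := by simpa using orderOf_dvd_iff_pow_eq_one.1 hz.dvd
    rw [htc, ← mem_bot, ← zpowers_one_eq_bot, ← h1, hΦ]
    exact pow_mem_powClosure hc
  have ht' : t * c⁻¹ ∉ centralizer (E : Set G) := fun e =>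
    ht ((mul_mem_cancel_right (inv_mem hc)).1 e)
  have hc' : t * c * t⁻¹ ∈ centralizer (E : Set G) := Normal.conj_mem inferInstance c hc t
  have h1 : ⁅closure ({t, c} : Set G), closure ({t, c} : Set G)⁆ ≤ E :=
    commutator_closure_pair_le (by rw [normalizer_eq_top]; trivial)
      (by rw [normalizer_eq_top]; trivial) (h.omega _ (mul_mem hc' (inv_mem hc)) (by
        rw [commutatorElement_def, (hcomm _ hc' _ (inv_mem hc)).mul_pow, conj_pow, inv_pow, ← htc,
          ((Commute.refl t).pow_right p).eq, mul_inv_cancel_right, mul_inv_cancel]))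
  have h2 := mul_pow_prime_mem hp.out (left_mem_closure_pair t c)
    (inv_mem (right_mem_closure_pair t c))
  rw [inv_pow, htc, mul_inv_cancel, mul_one, inv_mem_iff, le_bot_iff.1
    ((powClosure_mono p h1).trans (powClosure_eq_bot_iff.2 h.elem.2).le), bot_sup_eq] at h2
  have h3 : (closure ({t, c} : Set G)).lowerCentralSeries 2 ≤ E ⊓ center G :=
    (commutator_mono h1 le_top).trans (commutator_le.2 fun e he g _ => h.commutator_mem he g)
  have hp2 : 2 < p := lt_of_le_of_ne hp.out.two_le h.odd.symm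
  by_cases hp3 : p = 3
  swap
  · refine Or.inl ⟨_, ht', ?_⟩
    have h4 : (closure ({t, c} : Set G)).lowerCentralSeries 3 ≤ ⊥ :=
      (commutator_mono (h3.trans inf_le_right) le_top).trans
        (commutator_eq_bot_iff_le_centralizer.2 (by rw [coe_top, centralizer_univ])).le
    exact h4 (Subgroup.lowerCentralSeries_antitone _ (by omega) h2)
  replace h2 := Subgroup.lowerCentralSeries_antitone _ (by omega : 2 ≤ p - 1) h2
  rcases m with _ | m
  · by_cases h4 : (⊤ : Subgroup G).lowerCentralSeries 2 = ⊥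
    · exact Or.inl ⟨_, ht', mem_bot.1 (h4 ▸ Subgroup.lowerCentralSeries_mono 2 le_top h2)⟩
    · exact Or.inr ⟨hp3, rfl, h4⟩
  obtain ⟨k, hk⟩ := h.mem_zpowers (h.zeta_mem hC hz) hζ (zeta_ne hz) (h3 h2).1 (h3 h2).2
  have := (h.pg.to_subgroup ((zpowers (z ^ p) ⊔ E) ⊔ zpowers (t * c⁻¹))).isNilpotent
  refine Or.inl ⟨t * c⁻¹ * (((z ^ p) ^ (p ^ m * k))⁻¹), fun e => ht' ((mul_mem_cancel_right
    (inv_mem (pow_mem (pow_mem (z_mem hC) _) _))).1 e), ?_⟩
  refine ((h.reg_sup hC hz hζ hΦ (by omega) (t * c⁻¹)).pow_eq_pow_iff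
    (mem_sup_right (Subgroup.mem_zpowers _))
    (mem_sup_left (mem_sup_left (pow_mem (Subgroup.mem_zpowers _) _)))).1 ?_
  rw [hk, ← pow_mul, ← pow_mul, ← pow_mul]
  congr 1
  ring

include hy hy' hζ hΦ in
theorem conj_mul_inv_mem {x : G} (hx : x ^ p = 1) : x⁻¹ * z * x * z⁻¹ ∈ E := by
  have := h.normal
  have hN : (zpowers (z ^ p)).Normal := hΦ ▸ inferInstance
  have h0 : x⁻¹ * z * x * z⁻¹ = ⁅z, x⁻¹⁆⁻¹ := by simp [commutatorElement_def, mul_assoc]
  rcases eq_or_ne m 0 with rfl | hm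
  · rw [pow_zero, pow_one] at hζ
    rw [mul_assoc _ z, ← mem_center_iff.1 hζ x]
    simp
  have h1 : Cfsg.iterCommutator (centralizer (E : Set G)) ⊤ 1 ≤ zpowers (z ^ p) ⊔ E := by
    refine iterCommutator_le_of_card_lt h.pg
      (sup_le (zpowers_le.2 (pow_mem (z_mem hC) p)) h.le) ?_
    rw [← h.card_powClosure, ← hΦ]
    refine Nat.mul_lt_mul_of_pos_right (PGrp.card_lt_of_lt (left_lt_sup.2 fun e => hy' ?_))
      (pow_pos hp.out.pos _)
    obtain ⟨i, rfl⟩ := mem_powers_iff_mem_zpowers.2 (e hy)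
    have h2 := orderOf_dvd_of_pow_eq_one ((pow_mul _ _ _).trans ((congrArg (· ^ p)
      (pow_mul z p i)).trans (h.elem.2 _ hy)))
    rw [hz, pow_succ, Nat.mul_dvd_mul_iff_right hp.out.pos] at h2
    obtain ⟨k, hk⟩ := h2
    simp only
    rw [← pow_mul, hk, pow_mul]
    exact pow_mem hζ k
  have h2 : x⁻¹ * z * x * z⁻¹ ∈ zpowers (z ^ p) ⊔ E :=
    h0 ▸ inv_mem (h1 (commutator_mem_commutator (z_mem hC) (mem_top _)))
  have := (h.pg.to_subgroup ((zpowers (z ^ p) ⊔ E) ⊔ zpowers x)).isNilpotent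
  have hxm : x ∈ (zpowers (z ^ p) ⊔ E) ⊔ zpowers x := mem_sup_right (Subgroup.mem_zpowers _)
  have h3 := (h.reg_sup hC hz hζ hΦ hm x).mul_pow_eq_one (inv_mem hxm)
    (mul_mem hxm (mem_sup_left h2)) (by rw [inv_pow, hx, inv_one]) (by
      rw [show x * (x⁻¹ * z * x * z⁻¹) = z * x * z⁻¹ by group, conj_pow, hx]; simp)
  rw [inv_mul_cancel_left] at h3
  exact h.omega _ ((sup_le (zpowers_le.2 (pow_mem (z_mem hC) p)) h.le :
    zpowers (z ^ p) ⊔ E ≤ centralizer (E : Set G)) h2) h3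

include hζ in
theorem exists_conj_eq {x e : G} (hx : x ∉ centralizer (E : Set G)) (he : e ∈ E)
    (he' : e ∉ center G) : ∃ s : ℕ, ¬ p ∣ s ∧ x⁻¹ * e * x = e * (z ^ p ^ m) ^ s := by
  have h1 := h.commutator_mem (inv_mem he) x⁻¹
  obtain ⟨s, hs⟩ := h.mem_zpowers (h.zeta_mem hC hz) hζ (zeta_ne hz) h1.1 h1.2
  have h2 : x⁻¹ * e * x = e * (z ^ p ^ m) ^ s := by
    rw [← hs]; simp [commutatorElement_def, mul_assoc]
  refine ⟨s, fun hd => he' (h.mem_center hx he ?_), h2⟩
  rw [orderOf_dvd_iff_pow_eq_one.1 ((orderOf_dvd_of_pow_eq_one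
    (h.elem.2 _ (h.zeta_mem hC hz))).trans hd), mul_one, mul_assoc, inv_mul_eq_iff_eq_mul] at h2
  exact h2

include hy hζ in
theorem closure_eq_top {x e z' : G} (hx : x ∉ centralizer (E : Set G)) (he : e ∈ E)
    (he' : e ∉ center G) {k : ℕ} (hz' : z' = z * e ^ k) : closure ({x, e, z'} : Set G) = ⊤ := by
  have h1 : e ∈ closure ({x, e, z'} : Set G) := subset_closure (by simp)
  have h2 : z ∈ closure ({x, e, z'} : Set G) :=
    (mul_mem_cancel_right (pow_mem h1 k)).1 (subset_closure (by simp [hz']))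
  refine h.eq_top (hC ▸ sup_le (zpowers_le.2 h2) (zpowers_le.2 ?_)) hx (subset_closure (by simp))
  rw [← h.eq_sup (h.zeta_mem hC hz) hζ (zeta_ne hz) he he'] at hy
  exact (sup_le (zpowers_le.2 (pow_mem h2 _)) (zpowers_le.2 h1) : _ ≤ Subgroup.closure _) hy

include hy hy' hζ hΦ in
theorem presentation {x : G} (hx : x ∉ centralizer (E : Set G)) (hxp : x ^ p = 1) :
    (∃ x y z : G, closure ({x, y, z} : Set G) = ⊤ ∧ x ^ p = 1 ∧ y ^ p = 1 ∧ z ^ p ^ (m + 1) = 1 ∧
        x * z = z * x ∧ y * z = z * y ∧ x⁻¹ * y * x = y * z ^ p ^ m) ∨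
    (1 ≤ m ∧ ∃ (s : ℕ) (x y z : G), (s = 1 ∨ ¬ IsSquare (s : ZMod p)) ∧
      closure ({x, y, z} : Set G) = ⊤ ∧ x ^ p = 1 ∧ y ^ p = 1 ∧ z ^ p ^ (m + 1) = 1 ∧
      y * z = z * y ∧ x⁻¹ * y * x = y * z ^ (s * p ^ m) ∧ x⁻¹ * z * x = y * z) := by
  have hζE := h.zeta_mem hC hz
  have hζp := h.elem.2 _ hζE
  have hζmod : ∀ {a b : ℕ}, (a : ZMod p) = b → (z ^ p ^ m) ^ a = (z ^ p ^ m) ^ b := fun hab => by
    rw [pow_eq_pow_iff_modEq, orderOf_eq_prime hζp (zeta_ne hz)]
    exact (ZMod.natCast_eq_natCast_iff _ _ _).1 hab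
  have hinv : ∀ s : ZMod p, s ≠ 0 → ∃ r : ℕ, ¬ p ∣ r ∧ (r : ZMod p) * s = 1 := fun s hs =>
    ⟨(s⁻¹).val, by rw [← ZMod.natCast_eq_zero_iff]; simpa using hs, by simp [hs]⟩
  have hncen : ∀ e ∈ E, e ∉ center G → ∀ r : ℕ, ¬ p ∣ r → e ^ r ∉ center G :=
    fun e he he' r hr h1 => he' (zpowers_le.2 h1 (mem_zpowers_pow_iff.2 (by
      rw [orderOf_eq_prime (h.elem.2 e he) fun e1 => he' (e1 ▸ one_mem _)]
      exact (hp.out.coprime_iff_not_dvd.2 hr).symm)))
  have hzp : z ^ p ^ (m + 1) = 1 := hz ▸ pow_orderOf_eq_one z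
  have hwE := h.conj_mul_inv_mem hy hy' hC hz hζ hΦ hxp
  have hm0 : m = 0 → x⁻¹ * z * x * z⁻¹ = 1 := by
    rintro rfl
    rw [pow_zero, pow_one] at hζ
    rw [mul_assoc _ z, ← mem_center_iff.1 hζ x]
    simp
  set w := x⁻¹ * z * x * z⁻¹ with hw
  have hxz : x⁻¹ * z * x = w * z := by rw [hw, inv_mul_cancel_right]
  by_cases hwc : w ∈ center G
  · left
    obtain ⟨s, hs, hs'⟩ := h.exists_conj_eq hC hz hζ hx hy hy'
    obtain ⟨r, hr, hrs⟩ := hinv s (by rwa [Ne, ZMod.natCast_eq_zero_iff])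
    have h1 : ∀ k, x⁻¹ * (y ^ r) ^ k * x = (y ^ r) ^ k * (z ^ p ^ m) ^ k := fun k => by
      have := conj_pow_pow_eq (pow_mem hζ s) hs' 1 (r * k)
      rw [pow_one, ← pow_mul (z ^ p ^ m)] at this
      rw [← pow_mul, this, hζmod (b := k) (by push_cast; linear_combination (k : ZMod p) * hrs)]
    obtain ⟨k, hk, hk'⟩ : ∃ k, w * (z ^ p ^ m) ^ k = 1 ∧ (m = 0 → k = 0) := by
      by_cases hm : m = 0
      · exact ⟨0, by rw [hm0 hm, pow_zero, one_mul], fun _ => rfl⟩
      · obtain ⟨l, hl⟩ := h.mem_zpowers hζE hζ (zeta_ne hz) hwE hwc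
        refine ⟨(p - 1) * l, ?_, fun e => absurd e hm⟩
        rw [hl, ← pow_add, show l + (p - 1) * l = p * l by
          have := hp.out.pos
          obtain ⟨q, rfl⟩ : ∃ q, p = q + 1 := ⟨p - 1, by omega⟩
          simp only [Nat.add_sub_cancel]; ring, pow_mul, hζp, one_pow]
    have hyE := pow_mem hy r
    have hc : Commute z ((y ^ r) ^ k) := (z_mem hC _ (pow_mem hyE k)).symm
    have h2 : (z * (y ^ r) ^ k) ^ p ^ m = z ^ p ^ m := by
      rw [hc.mul_pow]
      rcases m with _ | m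
      · rw [hk' rfl]; simp
      · rw [pow_succ' p, pow_mul _ p, pow_mul _ p, h.elem.2 _ (pow_mem hyE k), one_pow, mul_one]
    refine ⟨x, y ^ r, z * (y ^ r) ^ k, h.closure_eq_top hy hC hz hζ hx hyE (hncen y hy hy' r hr)
      rfl, hxp, h.elem.2 _ hyE, by rw [pow_succ, pow_mul, h2, hζp], ?_,
      ((Commute.mul_right (z_mem hC _ hyE) ((Commute.refl _).pow_right k)) :), ?_⟩
    · rw [eq_comm, ← inv_mul_eq_iff_eq_mul]
      calc _ = (x⁻¹ * z * x) * (x⁻¹ * (y ^ r) ^ k * x) := by group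
        _ = z * (y ^ r) ^ k * (w * (z ^ p ^ m) ^ k) := by
          rw [hxz, h1, ← mem_center_iff.1 hwc z, mul_assoc z w, ← mul_assoc w,
            ← mem_center_iff.1 hwc]
          simp only [mul_assoc]
        _ = _ := by rw [hk, mul_one]
    · simpa [h2] using h1 1
  right
  refine ⟨Nat.pos_of_ne_zero fun e => hwc (hm0 e ▸ one_mem _), ?_⟩
  obtain ⟨s, hs, hs'⟩ := h.exists_conj_eq hC hz hζ hx hwE hwc
  by_cases hsq : IsSquare (s : ZMod p)
  swap
  · exact ⟨s, x, w, z, Or.inr hsq, h.closure_eq_top hy hC hz hζ hx hwE hwc (k := 0) (by simp),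
      hxp, h.elem.2 w hwE, hzp, z_mem hC w hwE, by rw [hs', ← pow_mul, mul_comm s], hxz⟩
  obtain ⟨r, hr⟩ := hsq
  obtain ⟨a, ha, har⟩ := hinv r (by
    rintro rfl
    exact hs ((ZMod.natCast_eq_zero_iff _ _).1 (by simpa using hr)))
  have h1 : ∀ b : ℕ, ∃ k : ℕ, (x ^ b)⁻¹ * z * x ^ b = w ^ b * (z ^ p ^ m) ^ k * z := by
    intro b
    induction b with
    | zero => exact ⟨0, by simp⟩
    | succ b ih =>
      obtain ⟨k, hk⟩ := ih
      have h2 := conj_pow_pow_eq (pow_mem hζ s) hs' 1 b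
      rw [pow_one, one_mul, ← pow_mul (z ^ p ^ m)] at h2
      refine ⟨s * b + k, ?_⟩
      calc _ = x⁻¹ * ((x ^ b)⁻¹ * z * x ^ b) * x := by rw [pow_succ]; group
        _ = (x⁻¹ * w ^ b * x) * ((x⁻¹ * (z ^ p ^ m) ^ k * x) * (x⁻¹ * z * x)) := by
          rw [hk]; group
        _ = _ := by
          rw [h2, hxz, mul_assoc x⁻¹, ← mem_center_iff.1 (pow_mem hζ k) x, inv_mul_cancel_left,
            mul_assoc (w ^ b), ← mul_assoc (_ ^ (s * b)), ← pow_add, ← mul_assoc _ w,
            ← mem_center_iff.1 (pow_mem hζ _) w, pow_succ w]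
          simp only [mul_assoc]
  obtain ⟨k, hk⟩ := h1 a
  have hxa : x ^ a ∉ centralizer (E : Set G) := fun e => hx (zpowers_le.2 e
    (mem_zpowers_pow_iff.2 (by
      rw [orderOf_eq_prime hxp fun e1 => hx (e1 ▸ one_mem _)]
      exact (hp.out.coprime_iff_not_dvd.2 ha).symm)))
  have hE' : w ^ a * (z ^ p ^ m) ^ k ∈ E := mul_mem (pow_mem hwE a) (pow_mem hζE k)
  refine ⟨1, x ^ a, w ^ a * (z ^ p ^ m) ^ k, z, Or.inl rfl, h.closure_eq_top hy hC hz hζ hxa hE'
    (fun e => hncen w hwE hwc a ha ((mul_mem_cancel_right (pow_mem hζ k)).1 e)) (k := 0) (by simp),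
    by rw [← pow_mul, mul_comm, pow_mul, hxp, one_pow], h.elem.2 _ hE', hzp, z_mem hC _ hE', ?_, hk⟩
  have h2 := conj_pow_pow_eq (pow_mem hζ s) hs' a a
  rw [← pow_mul (z ^ p ^ m), hζmod (b := 1) (by
    push_cast; rw [hr]; linear_combination ((a : ZMod p) * r + 1) * har), pow_one] at h2
  rw [one_mul, ← mul_assoc, mul_assoc _ _ (x ^ a), ← mem_center_iff.1 (pow_mem hζ k), ← mul_assoc,
    h2, mul_assoc, mul_assoc, ← pow_succ, ← pow_succ']

end Gen

end R2

end Cfsg.Agent.Reg
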