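import Cfsg.Agent.Lib.Reg.GrLie

/-!
# The Engel condition coming from a `p`-th power identity (Topic Reg)
-/

set_option autoImplicit false

open scoped commutatorElement

namespace Cfsg.Agent.Reg

theorem sub_one_pow_apply_eq_zero {A : Type*} [AddCommGroup A] {p : ℕ} (hp : p.Prime)
    (σ : Module.End ℤ A) {v : A} (hv : p • v = 0) (h : (∑ i ∈ Finset.range p, σ ^ i) v = 0) :
    ((σ - 1) ^ (p - 1)) v = 0 := by
  obtain ⟨r, hr⟩ := exists_add_pow_prime_eq hp (Polynomial.X : Polynomial ℤ) 1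
  have h1 : (∑ i ∈ Finset.range p, (Polynomial.X + 1 : Polynomial ℤ) ^ i) =
      Polynomial.X ^ (p - 1) + r * (p : Polynomial ℤ) := by
    refine mul_right_cancel₀ Polynomial.X_ne_zero ?_
    have h2 := geom_sum_mul (Polynomial.X + 1 : Polynomial ℤ) p
    rw [add_sub_cancel_right] at h2
    rw [h2, hr, add_mul, ← pow_succ, Nat.sub_add_cancel hp.one_le]
    ring
  have h2 := congrArg (fun f => Polynomial.aeval (σ - 1) f v) h1
  simp only [map_sum, map_pow, map_add, Polynomial.aeval_X, map_one, sub_add_cancel, map_mul,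
    map_natCast, LinearMap.add_apply, Module.End.mul_apply, Module.End.natCast_apply, hv,
    map_zero, add_zero] at h2
  rw [← h2, h]

variable {G : Type*} [Group G]

/-- The polynomial sequences of positive level. -/
def polyNSeries {F : ℕ → Subgroup G} (hF : IsFiltration F) : NSeries (ℕ → G) where
  F a :=
    { carrier := {g | IsPolySeq F (max a 1) g}
      one_mem' := isPolySeq_const (one_mem _)
      mul_mem' := fun hg hh => hg.mul hF hh
      inv_mem' := fun hg => hg.inv hF }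
  filt := ⟨fun a b hab g hg => IsPolySeq.mono hF (by omega) hg,
    fun a b g hg h hh => IsPolySeq.mono hF (by omega) (IsPolySeq.commutator hF hg hh)⟩
  zero_le := fun _ hg => hg

theorem IsPolySeq.shift {F : ℕ → Subgroup G} (hF : IsFiltration F) {a : ℕ} {g : ℕ → G}
    (hg : IsPolySeq F a g) : IsPolySeq F a (fun n => g (n + 1)) := by
  simpa [Reg.seqDiff] using hg.mul hF (hg.seqDiff.mono hF a.le_succ)

theorem NSeries.iterate_commutator_mem (N : NSeries G) {s x : G} (hs : s ∈ N.F 1) (hx : x ∈ N.F 1)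
    (j : ℕ) : (fun y => ⁅s, y⁆)^[j] x ∈ N.F (j + 1) := by
  induction j with
  | zero => exact hx
  | succ j ih => rw [Function.iterate_succ_apply']; exact N.comm_succ hs ih

theorem NSeries.ι_iterate_commutator (N : NSeries G) {s x : G} (hs : s ∈ N.F 1) (hx : x ∈ N.F 1)
    (k m j : ℕ) : N.ι (j + 1) ((fun y => ⁅s ^ k, y⁆)^[j] (x ^ m)) =
      (k ^ j * m) • N.ι (j + 1) ((fun y => ⁅s, y⁆)^[j] x) := by
  induction j with
  | zero => simpa using N.ι_pow hx m
  | succ j ih =>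
    rw [Function.iterate_succ_apply', Function.iterate_succ_apply', add_comm (j + 1),
      ← N.lie_ι (pow_mem hs k) (N.iterate_commutator_mem (pow_mem hs k) (pow_mem hx m) j),
      ← N.lie_ι hs (N.iterate_commutator_mem hs hx j), ih, N.ι_pow hs, nsmul_lie, lie_nsmul,
      smul_smul, pow_succ', mul_assoc]

/-- If `x ^ p = 1` and `(x * s ^ k) ^ p = (s ^ k) ^ p` for all `k`, in a group of class at most
`p`, then `[x, s, …, s] = 1` with `p - 1` entries `s`. -/
theorem engel_of_pow_eq {p : ℕ} (hp : p.Prime) {H : Subgroup G} (hH : H.lowerCentralSeries p = ⊥)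
    {s x : G} (hs : s ∈ H) (hx : x ∈ H) (hxp : x ^ p = 1)
    (h : ∀ k : ℕ, (x * s ^ k) ^ p = (s ^ k) ^ p) : (fun y => ⁅s, y⁆)^[p - 1] x = 1 := by
  let N := lcsNSeries H
  let M := polyNSeries N.filt
  let S : ℕ → G := fun k => s ^ k
  let X : ℕ → G := fun _ => x
  have hS : IsPolySeq N.F 0 S := isPolySeq_pow N.filt hs
  have hX : X ∈ M.F 1 := isPolySeq_const hx
  have hc : ∀ n, ∀ g ∈ M.F n, ⁅S, g⁆ ∈ M.F n := fun n g hg => by
    have := IsPolySeq.commutator N.filt hS hg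
    rwa [zero_add] at this
  have hφ : ∀ n, ∀ g ∈ M.F n, S * g * S⁻¹ ∈ M.F n := fun n g hg => by
    simpa [commutatorElement_def] using mul_mem (hc n g hg) hg
  let σ : Module.End ℤ M.L := (M.map (MulAut.conj S).toMonoidHom hφ).toIntLinearMap
  have hσ : ∀ g ∈ M.F 1, σ (M.ι 1 g) = M.ι 1 (S * g * S⁻¹) := fun g hg =>
    M.map_ι (MulAut.conj S).toMonoidHom hφ hg
  have h1 : ∀ m, (X * S) ^ m * (S ^ m)⁻¹ ∈ M.F 1 ∧
      M.ι 1 ((X * S) ^ m * (S ^ m)⁻¹) = (∑ i ∈ Finset.range m, σ ^ i) (M.ι 1 X) := by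
    intro m
    induction m with
    | zero => simp
    | succ m ih =>
      have e : (X * S) ^ (m + 1) * (S ^ (m + 1))⁻¹ = X * (S * ((X * S) ^ m * (S ^ m)⁻¹) * S⁻¹) := by
        rw [pow_succ', pow_succ' S]; group
      rw [e, M.ι_mul hX (hφ 1 _ ih.1), ← hσ _ ih.1, ih.2, geom_sum_succ, add_comm]
      exact ⟨mul_mem hX (hφ 1 _ ih.1), rfl⟩
  have h2 : ∀ j, (fun y => ⁅S, y⁆)^[j] X ∈ M.F 1 ∧
      M.ι 1 ((fun y => ⁅S, y⁆)^[j] X) = ((σ - 1) ^ j) (M.ι 1 X) := by
    intro j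
    induction j with
    | zero => exact ⟨hX, rfl⟩
    | succ j ih =>
      rw [Function.iterate_succ_apply', pow_succ', Module.End.mul_apply, ← ih.2,
        LinearMap.sub_apply, hσ _ ih.1, commutatorElement_def,
        M.ι_mul (hφ 1 _ ih.1) (inv_mem ih.1), M.ι_inv ih.1, sub_eq_add_neg]
      exact ⟨hc 1 _ ih.1, rfl⟩
  have h3 : (fun y => ⁅S, y⁆)^[p - 1] X ∈ M.F 2 := by
    rw [← M.ι_eq_zero_iff (h2 _).1, (h2 _).2]
    refine sub_one_pow_apply_eq_zero hp σ ?_ ?_
    · rw [← M.ι_pow hX, show X ^ p = 1 from funext fun _ => hxp, M.ι_one]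
    · rw [← (h1 p).2, show (X * S) ^ p = S ^ p from funext h, mul_inv_cancel, M.ι_one]
  have h4 : ∀ j k, ((fun y => ⁅S, y⁆)^[j] X) k = (fun y => ⁅s ^ k, y⁆)^[j] x := by
    intro j k
    induction j with
    | zero => rfl
    | succ j ih => rw [Function.iterate_succ_apply', Function.iterate_succ_apply', ← ih]; rfl
  obtain ⟨q, rfl⟩ : ∃ q, p = q + 2 := ⟨p - 2, by have := hp.two_le; omega⟩
  have hbot : N.F (q + 1 + 1 + 1) = ⊥ := hH
  set e := (fun y => ⁅s, y⁆)^[q + 1] x with he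
  have he1 : e ∈ N.F (q + 1 + 1) := N.iterate_commutator_mem hs hx _
  have he2 : (q + 2) • N.ι (q + 1 + 1) e = 0 := by
    have := N.ι_iterate_commutator hs hx 1 (q + 2) (q + 1)
    rw [hxp, Function.iterate_fixed (commutatorElement_one_right _), N.ι_one, one_pow,
      one_mul] at this
    exact this.symm
  have h5 : ∀ k r, k ^ (q + 1) ≡ r [MOD q + 2] → (fun y => ⁅s ^ k, y⁆)^[q + 1] x = e ^ r := by
    intro k r hr
    have h6 := N.ι_iterate_commutator hs hx k 1 (q + 1)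
    rw [pow_one, mul_one, ← he, (nsmul_eq_nsmul_iff_modEq.2
      (hr.of_dvd (addOrderOf_dvd_of_nsmul_eq_zero he2))), ← N.ι_pow he1,
      N.ι_eq_iff (N.iterate_commutator_mem (pow_mem hs k) hx _) (pow_mem he1 r), hbot,
      Subgroup.mem_bot, inv_mul_eq_one] at h6
    exact h6
  have h6 := ((isPolySeq_const (inv_mem (N.filt.anti (by omega : 2 ≤ q + 1 + 1) he1))).mul N.filt
    (IsPolySeq.shift N.filt h3)).mem_of_eq_one (k := q + 1) fun k hk => by
      rw [h4, Nat.add_one_sub_one, h5 (k + 1) 1 (ZMod.natCast_eq_natCast_iff _ _ _ |>.1 ?_),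
        pow_one, inv_mul_cancel]
      have : Fact (q + 2).Prime := ⟨hp⟩
      rw [Nat.cast_pow, Nat.cast_one]
      exact ZMod.pow_card_sub_one_eq_one (p := q + 2) (by
        rw [Ne, ZMod.natCast_eq_zero_iff]; exact Nat.not_dvd_of_pos_of_lt k.succ_pos (by omega))
  rw [h4, Nat.add_one_sub_one, h5 _ 0 (Nat.modEq_zero_iff_dvd.2 (dvd_pow_self _ q.succ_ne_zero)),
    pow_zero, mul_one, show 2 + (q + 1) = q + 1 + 1 + 1 by omega, hbot, Subgroup.mem_bot,
    inv_eq_one] at h6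
  exact h6

end Cfsg.Agent.Reg
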