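import Cfsg.Agent.Lib.PGrp.MaxClass
import Cfsg.Agent.Lib.Reg.Engel

/-!
# The power structure of `p`-groups of maximal class (Blackburn)
-/

namespace Cfsg.Agent.Reg

open Subgroup
open scoped commutatorElement

universe u

variable {G : Type*} [Group G]

/-- The elements commuting with `s` modulo `N`. -/
def commIn (N : Subgroup G) [N.Normal] (s : G) : Subgroup G :=
  (centralizer {(s : G ⧸ N)}).comap (QuotientGroup.mk' N)

theorem mem_commIn {N : Subgroup G} [N.Normal] {s g : G} : g ∈ commIn N s ↔ ⁅g, s⁆ ∈ N := by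
  rw [commIn, mem_comap, mem_centralizer_singleton_iff, ← commutatorElement_eq_one_iff_mul_comm,
    ← QuotientGroup.eq_one_iff]
  rfl

theorem commutatorElement_mem_comm {N : Subgroup G} {a b : G} : ⁅a, b⁆ ∈ N ↔ ⁅b, a⁆ ∈ N := by
  rw [← commutatorElement_inv, inv_mem_iff]

/-- The two-step centralizers. -/
def twoStep (G : Type*) [Group G] (i : ℕ) : Subgroup G :=
  ⨅ y ∈ (⊤ : Subgroup G).lowerCentralSeries i, commIn ((⊤ : Subgroup G).lowerCentralSeries (i + 2)) y

theorem mem_twoStep {i : ℕ} {g : G} : g ∈ twoStep G i ↔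
    ∀ y ∈ (⊤ : Subgroup G).lowerCentralSeries i,
      ⁅g, y⁆ ∈ (⊤ : Subgroup G).lowerCentralSeries (i + 2) := by
  simp only [twoStep, mem_iInf, mem_commIn]

theorem commutator_mem_lcs_succ {i : ℕ} (g : G) {y : G}
    (hy : y ∈ (⊤ : Subgroup G).lowerCentralSeries i) :
    ⁅g, y⁆ ∈ (⊤ : Subgroup G).lowerCentralSeries (i + 1) :=
  commutatorElement_mem_comm.1 (commutator_mem_commutator hy (mem_top g))

variable [Finite G] {p : ℕ} [hp : Fact p.Prime]

/-- A `p`-group is not the union of `p` proper subgroups. -/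
theorem exists_forall_not_mem (hG : IsPGroup p G) {ι : Type*} (T : Finset ι) (hT : T.card ≤ p)
    (K : ι → Subgroup G) (hK : ∀ i ∈ T, K i ≠ ⊤) : ∃ s, ∀ i ∈ T, s ∉ K i := by
  classical
  have := Fintype.ofFinite G
  by_contra h
  push Not at h
  obtain ⟨i₀, hi₀, -⟩ := h 1
  have h1 : ∀ i ∈ T, Nat.card (K i) ≤ Nat.card G / p := fun i hi =>
    (Nat.le_div_iff_mul_le hp.out.pos).2 ((K i).card_mul_index ▸ Nat.mul_le_mul_left _
      (Nat.le_of_dvd (Nat.pos_of_ne_zero FiniteIndex.index_ne_zero)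
        (PGrp.dvd_index_of_ne_top hG (hK i hi))))
  have h2 : (Finset.univ.erase (1 : G)) ⊆ T.biUnion fun i => (K i : Set G).toFinset.erase 1 :=
    fun g hg => by
      obtain ⟨i, hi, hg'⟩ := h g
      exact Finset.mem_biUnion.2 ⟨i, hi, by simpa using ⟨(Finset.mem_erase.1 hg).1, hg'⟩⟩
  have h3 := (Finset.card_le_card h2).trans (Finset.card_biUnion_le.trans
    (Finset.sum_le_card_nsmul _ _ (Nat.card G / p - 1) fun i hi => by
      rw [Finset.card_erase_of_mem (by simp), Set.toFinset_card, ← Nat.card_eq_fintype_card]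
      exact Nat.sub_le_sub_right (h1 i hi) 1))
  rw [Finset.card_erase_of_mem (by simp), Finset.card_univ, ← Nat.card_eq_fintype_card,
    smul_eq_mul] at h3
  have h4 := Nat.card_pos.trans_le (h1 i₀ hi₀)
  have h5 := Nat.mul_div_le (Nat.card G) p
  have h6 := Nat.mul_le_mul_right (Nat.card G / p - 1) hT
  obtain ⟨a, ha⟩ : ∃ a, Nat.card G / p = a + 1 := ⟨_, (Nat.succ_pred_eq_of_pos h4).symm⟩
  have := hp.out.two_le
  rw [ha, Nat.add_sub_cancel] at h3 h6
  rw [ha, mul_add] at h5
  omega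

section
variable {n : ℕ} (hG : Nat.card G = p ^ (n + 2)) (hc : Group.nilpotencyClass G = n + 1)
include hG hc

theorem lcs_eq_bot_of_maxClass {i : ℕ} (hi : n + 1 ≤ i) :
    (⊤ : Subgroup G).lowerCentralSeries i = ⊥ :=
  have := (IsPGroup.of_card hG).isNilpotent
  Subgroup.lowerCentralSeries_eq_bot_iff_nilpotencyClass_le.2 (hc ▸ hi)

theorem index_lcs_of_maxClass {i : ℕ} (hi : i ≤ n) :
    ((⊤ : Subgroup G).lowerCentralSeries (i + 1)).index = p ^ (i + 2) := by
  have h := ((⊤ : Subgroup G).lowerCentralSeries (i + 1)).card_mul_index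
  rw [PGrp.card_lowerCentralSeries_of_maxClass hG hc hi, hG,
    show n + 2 = n - i + (i + 2) by omega, pow_add] at h
  exact Nat.eq_of_mul_eq_mul_left (pow_pos hp.out.pos _) h

theorem twoStep_ne_top {i : ℕ} (hi : i + 1 ≤ n) : twoStep G i ≠ ⊤ := fun h => by
  have h1 : (⊤ : Subgroup G).lowerCentralSeries (i + 1) ≤
      (⊤ : Subgroup G).lowerCentralSeries (i + 1 + 1) := commutator_le.2 fun y hy g _ =>
    commutatorElement_mem_comm.1 (mem_twoStep.1 (h ▸ mem_top g) y hy)
  have h2 := card_le_of_le h1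
  rw [PGrp.card_lowerCentralSeries_of_maxClass hG hc (by omega),
    PGrp.card_lowerCentralSeries_of_maxClass hG hc hi,
    Nat.pow_le_pow_iff_right hp.out.one_lt] at h2
  omega

theorem mem_lcs_of_not_mem_twoStep {i : ℕ} {s y : G} (hs : s ∉ twoStep G (i + 1))
    (hy : y ∈ (⊤ : Subgroup G).lowerCentralSeries (i + 1))
    (h : ⁅s, y⁆ ∈ (⊤ : Subgroup G).lowerCentralSeries (i + 3)) :
    y ∈ (⊤ : Subgroup G).lowerCentralSeries (i + 2) := by
  by_cases hi : n ≤ i
  · rw [lcs_eq_bot_of_maxClass hG hc (by omega), mem_bot] at hy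
    exact hy ▸ one_mem _
  by_contra hy'
  have h1 := le_zpowers_sup_of_card_eq (p := p)
    ((⊤ : Subgroup G).lowerCentralSeries_antitone (Nat.le_succ (i + 1))) (by
      rw [PGrp.card_lowerCentralSeries_of_maxClass hG hc (by omega),
        PGrp.card_lowerCentralSeries_of_maxClass hG hc (by omega), ← pow_succ]
      congr 1; omega) hy hy'
  have h2 := h1.trans (sup_le (zpowers_le.2 (mem_commIn.2 (commutatorElement_mem_comm.1 h)))
    fun z hz => mem_commIn.2 (commutatorElement_mem_comm.1 (commutator_mem_lcs_succ s hz)))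
  exact hs (mem_twoStep.2 fun z hz => commutatorElement_mem_comm.1 (mem_commIn.1 (h2 hz)))

theorem pow_mem_lcs_of_maxClass {i : ℕ} {y : G}
    (hy : y ∈ (⊤ : Subgroup G).lowerCentralSeries (i + 1)) :
    y ^ p ∈ (⊤ : Subgroup G).lowerCentralSeries (i + p) := by
  by_cases hi : n + 1 ≤ i + p
  · rw [PGrp.lowerCentralSeries_pow_eq_one_of_maxClass i hG hc hi y hy]
    exact one_mem _
  obtain ⟨k, hk⟩ : ∃ k, i + p = k + 1 := ⟨i + p - 1, by have := hp.out.pos; omega⟩
  have h1 := index_lcs_of_maxClass hG hc (show k ≤ n by omega)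
  rw [hk, ← QuotientGroup.eq_one_iff]
  refine PGrp.lowerCentralSeries_pow_eq_one_of_maxClass i h1
    (PGrp.nilpotencyClass_quotient_of_maxClass hG hc _ h1) hk.ge (y : G ⧸ _) ?_
  rw [← map_top_of_surjective _ (QuotientGroup.mk'_surjective _), ← map_lowerCentralSeries]
  exact mem_map_of_mem _ hy

theorem twoStep_add_le {i : ℕ} (h : ∀ y ∈ (⊤ : Subgroup G).lowerCentralSeries (i + 2),
    y ^ p ∈ (⊤ : Subgroup G).lowerCentralSeries (i + 2 + p) →
      y ∈ (⊤ : Subgroup G).lowerCentralSeries (i + 3)) : twoStep G (i + p) ≤ twoStep G (i + 1) := by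
  intro g hg
  refine mem_twoStep.2 fun y hy => h _ (commutator_mem_lcs_succ g hy) ?_
  have h1 := PGrp.commutator_lowerCentralSeries_of_maxClass hG hc i
  have h2 : ∀ m, ((⊤ : Subgroup G).lowerCentralSeries (i + 1)).lowerCentralSeries (m + 1) ≤
      (⊤ : Subgroup G).lowerCentralSeries (2 * i + 4 + m) := fun m => by
    induction m with
    | zero => exact h1
    | succ m ih => exact commutator_mono ih le_top
  have := hp.out.two_le
  have h3 := mul_pow_prime_mem hp.out ((⊤ : Subgroup G).lowerCentralSeries_antitone (Nat.le_succ _)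
    (commutator_mem_lcs_succ g hy)) hy
  replace h3 : _ ∈ (⊤ : Subgroup G).lowerCentralSeries (i + 2 + p) :=
    (sup_le (powClosure_le_iff.2 fun x hx => (⊤ : Subgroup G).lowerCentralSeries_antitone (by omega)
      (pow_mem_lcs_of_maxClass hG hc (i := 2 * i + 3) (h1 hx))) (by
        rw [show p - 1 = p - 2 + 1 by omega]
        exact (h2 _).trans ((⊤ : Subgroup G).lowerCentralSeries_antitone (by omega))) :
      _ ≤ (⊤ : Subgroup G).lowerCentralSeries (i + 2 + p)) h3
  have h4 := mem_twoStep.1 hg _ (pow_mem_lcs_of_maxClass hG hc hy)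
  rw [add_right_comm] at h4
  rw [show ⁅g, y⁆ * y = g * y * g⁻¹ by simp [commutatorElement_def], conj_pow] at h3
  rw [show ⁅g, y⁆ ^ p = ⁅g, y ^ p⁆ * (y ^ p * ((g * y ^ p * g⁻¹)⁻¹ * (⁅g, y⁆ ^ p * y ^ p)) *
    (y ^ p)⁻¹) by rw [commutatorElement_def g (y ^ p)]; group]
  exact mul_mem h4 (Normal.conj_mem inferInstance _ h3 _)

theorem relIndex_commutator_dvd {H : Subgroup G} (hH : H ≠ ⊤) :
    ((⊤ : Subgroup G).lowerCentralSeries 1).relIndex H ∣ p := by
  have hP := IsPGroup.of_card hG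
  have h1 : (⊤ : Subgroup G).lowerCentralSeries 1 ⊔ H ≠ ⊤ := fun e => hH
    (frattini_nongenerating (top_le_iff.1 (e.ge.trans (sup_le
      (le_sup_of_le_right (PGrp.commutator_le_frattini hP)) le_sup_left))))
  obtain ⟨k, hk⟩ := PGrp.dvd_index_of_ne_top hP h1
  have h2 := relIndex_mul_index (le_sup_left : _ ≤ (⊤ : Subgroup G).lowerCentralSeries 1 ⊔ H)
  rw [relIndex_sup_left, hk, index_lcs_of_maxClass hG hc (Nat.zero_le n), mul_left_comm,
    pow_succ', Nat.mul_right_inj hp.out.ne_zero, pow_one] at h2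
  exact Dvd.intro _ h2

theorem iterate_not_mem_lcs {s x : G} (hs : ∀ i, i + 2 ≤ n → s ∉ twoStep G (i + 1)) {j : ℕ}
    (hx : x ∈ (⊤ : Subgroup G).lowerCentralSeries (j + 1))
    (hx' : x ∉ (⊤ : Subgroup G).lowerCentralSeries (j + 2)) (m : ℕ) (hm : j + 1 + m ≤ n) :
    (fun y => ⁅s, y⁆)^[m] x ∈ (⊤ : Subgroup G).lowerCentralSeries (j + m + 1) ∧
      (fun y => ⁅s, y⁆)^[m] x ∉ (⊤ : Subgroup G).lowerCentralSeries (j + m + 2) := by
  induction m with
  | zero => exact ⟨hx, hx'⟩
  | succ m ih =>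
    obtain ⟨h1, h2⟩ := ih (by omega)
    rw [Function.iterate_succ_apply']
    exact ⟨commutator_mem_lcs_succ s h1,
      fun h => h2 (mem_lcs_of_not_mem_twoStep hG hc (hs _ (by omega)) h1 h)⟩

theorem pow_eq_of_uniform (hn : 2 ≤ n) {s : G} (hs : ∀ i, i + 2 ≤ n → s ∉ twoStep G (i + 1)) :
    s ^ p ∈ (⊤ : Subgroup G).lowerCentralSeries n ∧
      ∀ x ∈ (⊤ : Subgroup G).lowerCentralSeries 1, (x * s) ^ p = s ^ p := by
  have h1 : ∀ y ∈ (⊤ : Subgroup G).lowerCentralSeries 1 ⊓ centralizer {s}, ∀ i, i + 1 ≤ n →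
      y ∈ (⊤ : Subgroup G).lowerCentralSeries (i + 1) := fun y hy i hi => by
    induction i with
    | zero => exact hy.1
    | succ i ih =>
      refine mem_lcs_of_not_mem_twoStep hG hc (hs i hi) (ih (by omega)) ?_
      rw [commutatorElement_eq_one_iff_mul_comm.2 (mem_centralizer_singleton_iff.1 hy.2).symm]
      exact one_mem _
  obtain ⟨n, rfl⟩ : ∃ m, n = m + 1 := ⟨n - 1, by omega⟩
  have h2 : centralizer {s} ≠ ⊤ := fun e => hs 0 hn (mem_twoStep.2 fun y _ => by
    rw [commutatorElement_eq_one_iff_mul_comm.2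
      (mem_centralizer_singleton_iff.1 (e ▸ mem_top y)).symm]
    exact one_mem _)
  have h3 := relIndex_commutator_dvd hG hc h2
  have hsC : s ∈ centralizer {s} := mem_centralizer_singleton_iff.2 rfl
  have h4 : s ^ p ∈ (⊤ : Subgroup G).lowerCentralSeries (n + 1) := by
    obtain ⟨k, hk⟩ := h3
    refine h1 _ ⟨?_, pow_mem hsC p⟩ n le_rfl
    rw [hk, pow_mul]
    exact pow_mem (pow_relIndex_mem _ hsC) k
  refine ⟨h4, fun x hx => ?_⟩
  have h5 : Nat.card (centralizer {s}) ≤ p ^ 2 := by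
    rw [← PGrp.card_inf_mul_relIndex ((⊤ : Subgroup G).lowerCentralSeries 1), sq]
    refine Nat.mul_le_mul ((card_le_of_le fun y hy => h1 y hy n le_rfl).trans ?_)
      (Nat.le_of_dvd hp.out.pos h3)
    rw [PGrp.card_lowerCentralSeries_of_maxClass hG hc n.le_succ, Nat.add_sub_cancel_left, pow_one]
  let f : G ⧸ centralizer {s} → (⊤ : Subgroup G).lowerCentralSeries 1 :=
    Quotient.lift (fun g => ⟨⁅g, s⁆, commutator_mem_commutator (mem_top _) (mem_top _)⟩)
      fun a b hab => Subtype.ext (by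
        have := mem_centralizer_singleton_iff.1 (QuotientGroup.leftRel_apply.1 hab)
        simp only [commutatorElement_def, mul_left_inj]
        calc a * s * a⁻¹ = a * (s * (a⁻¹ * b)) * b⁻¹ := by group
          _ = _ := by rw [← this]; group)
  have h6 : Function.Injective f := by
    rintro ⟨a⟩ ⟨b⟩ hab
    refine QuotientGroup.eq.2 (mem_centralizer_singleton_iff.2 ?_)
    have : a * s * a⁻¹ = b * s * b⁻¹ := mul_right_cancel (congrArg Subtype.val hab)
    calc a⁻¹ * b * s = a⁻¹ * (b * s * b⁻¹) * b := by group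
      _ = _ := by rw [← this]; group
  obtain ⟨⟨g⟩, hg⟩ := (h6.bijective_of_nat_card_le (by
    have h7 := (centralizer {s}).index_mul_card
    rw [PGrp.card_lowerCentralSeries_of_maxClass hG hc (Nat.zero_le _), ← index_eq_card]
    refine Nat.le_of_mul_le_mul_right ?_ (pow_pos hp.out.pos 2)
    rw [← pow_add, Nat.sub_zero, ← hG, ← h7]
    exact Nat.mul_le_mul_left _ h5)).2 ⟨x, hx⟩
  have h7 := commutator_mem_lcs_succ g h4
  rw [lcs_eq_bot_of_maxClass hG hc le_rfl, mem_bot, commutatorElement_eq_one_iff_mul_comm] at h7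
  rw [← show ⁅g, s⁆ = x from congrArg Subtype.val hg, commutatorElement_def, inv_mul_cancel_right,
    conj_pow, h7, mul_inv_cancel_right]

end

/-- A group of maximal class and order `p ^ (p + 1)` does not have exponent `p`. -/
theorem exists_pow_ne_one_of_maxClass {n : ℕ} (hG : Nat.card G = p ^ (n + 2))
    (hc : Group.nilpotencyClass G = n + 1) (hn : n + 1 = p) : ∃ g : G, g ^ p ≠ 1 := by
  by_contra h
  push Not at h
  have := hp.out.two_le
  obtain ⟨s, hs⟩ := exists_forall_not_mem (IsPGroup.of_card hG) (Finset.range n) (by simp; omega)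
    (twoStep G) fun i hi => twoStep_ne_top hG hc (Finset.mem_range.1 hi)
  obtain ⟨x, hx⟩ := not_forall.1 (mt mem_twoStep.2 (hs 0 (Finset.mem_range.2 (by omega))))
  have h1 := (iterate_not_mem_lcs hG hc (fun i hi => hs _ (Finset.mem_range.2 hi)) (j := 0)
    (commutator_mem_lcs_succ s (mem_top x)) (fun e => hx fun _ => e) (p - 2) (by omega)).2
  have h2 := engel_of_pow_eq hp.out (lcs_eq_bot_of_maxClass hG hc hn.le) (mem_top s) (mem_top x)
    (h x) fun k => by rw [h, h]
  rw [show p - 1 = p - 2 + 1 by omega, Function.iterate_succ_apply] at h2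
  exact h1 (h2 ▸ one_mem _)

/-- Blackburn: in a group of maximal class the `p`-th power map is injective from
`γ_i / γ_{i+1}` to `γ_{i+p-1} / γ_{i+p}` for `i ≥ 2`, if the latter is nontrivial. -/
theorem mem_lcs_of_pow_mem (n : ℕ) : ∀ {G : Type u} [Group G] [Finite G],
    Nat.card G = p ^ (n + 2) → Group.nilpotencyClass G = n + 1 → ∀ j, j + p ≤ n →
      ∀ y ∈ (⊤ : Subgroup G).lowerCentralSeries (j + 1),
        y ^ p ∈ (⊤ : Subgroup G).lowerCentralSeries (j + 1 + p) →
          y ∈ (⊤ : Subgroup G).lowerCentralSeries (j + 2) := by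
  have hp2 := hp.out.two_le
  induction n with
  | zero => intro G _ _ _ _ j hj; omega
  | succ n ih =>
  intro G _ _ hG hc
  have hP := IsPGroup.of_card hG
  have := hP.isNilpotent
  have h1 : ∀ j, j + p ≤ n → ∀ y ∈ (⊤ : Subgroup G).lowerCentralSeries (j + 1),
      y ^ p ∈ (⊤ : Subgroup G).lowerCentralSeries (j + 1 + p) →
        y ∈ (⊤ : Subgroup G).lowerCentralSeries (j + 2) := by
    intro j hj y hy hyp
    have hZ := PGrp.card_center_of_maxClass hG hc
    have h2 := ih (PGrp.card_quotient_of_card_prime hG hZ)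
      (by rw [Group.nilpotencyClass_quotient_center, hc]; rfl) j hj (y : G ⧸ center G)
    rw [← map_top_of_surjective _ (QuotientGroup.mk'_surjective _)] at h2
    simp only [← map_lowerCentralSeries] at h2
    have h3 := (mem_comap (f := QuotientGroup.mk' (center G)) (x := y)).2
      (h2 (mem_map_of_mem _ hy) (mem_map_of_mem _ hyp))
    rwa [Core.comap_map_mk, sup_eq_left.2] at h3
    rw [PGrp.eq_lowerCentralSeries_of_maxClass hG hc (N := center G) n.le_succ (by simpa using hZ)]
    exact (⊤ : Subgroup G).lowerCentralSeries_antitone (by omega)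
  intro j hj y hy hyp
  rcases hj.eq_or_lt with hj | hj
  swap
  · exact h1 j (by omega) y hy hyp
  by_contra hy'
  rw [lcs_eq_bot_of_maxClass hG hc (by omega), mem_bot] at hyp
  obtain ⟨s, hs⟩ := exists_forall_not_mem hP ((insert n (Finset.Ico 1 p)).filter (· ≤ n))
    ((Finset.card_filter_le _ _).trans ((Finset.card_insert_le _ _).trans (by simp; omega)))
    (twoStep G) fun i hi => twoStep_ne_top hG hc (by simpa using (Finset.mem_filter.1 hi).2)
  have h2 : ∀ i, i + 2 ≤ n + 1 → s ∉ twoStep G (i + 1) := fun i => by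
    induction i using Nat.strong_induction_on with
    | _ i ih =>
    intro hi
    by_cases h3 : i + 1 = n ∨ i + 1 < p
    · exact hs _ (by simp; omega)
    obtain ⟨k, hk⟩ : ∃ k, i + 1 = k + p := ⟨i + 1 - p, by omega⟩
    exact fun e => ih k (by omega) (by omega)
      (twoStep_add_le hG hc (h1 (k + 1) (by omega)) (hk ▸ e))
  have h3 := (pow_eq_of_uniform hG hc (by omega) h2).1
  have h4 : s ∉ (⊤ : Subgroup G).lowerCentralSeries (j + 1) := fun e => h2 0 (by omega)
    (mem_twoStep.2 fun z hz => (⊤ : Subgroup G).lowerCentralSeries_antitone (by omega)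
      (commutator_lowerCentralSeries_le _ _ _ (commutator_mem_commutator e hz)))
  have h5 := PGrp.card_sup_zpowers (p := p) (by rw [normalizer_eq_top]; trivial) h4
    ((⊤ : Subgroup G).lowerCentralSeries_antitone (by omega) h3)
  rw [PGrp.card_lowerCentralSeries_of_maxClass hG hc (by omega), ← pow_succ,
    show n + 1 - j = p by omega] at h5
  have h6 := engel_of_pow_eq hp.out (lowerCentralSeries_eq_bot_of_card_le (hP.to_subgroup _)
    (k := p) (by omega) h5.le) (mem_sup_right (mem_zpowers s)) (mem_sup_left hy) hyp fun k => by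
      by_cases hk : p ∣ k
      · obtain ⟨k, rfl⟩ := hk
        have h7 := commutator_mem_lcs_succ y (pow_mem h3 k)
        rw [lcs_eq_bot_of_maxClass hG hc le_rfl, mem_bot, commutatorElement_eq_one_iff_commute,
          ← pow_mul] at h7
        rw [h7.mul_pow, hyp, one_mul]
      · refine (pow_eq_of_uniform hG hc (by omega) fun i hi e => h2 i hi ?_).2 y
          ((⊤ : Subgroup G).lowerCentralSeries_antitone (by omega) hy)
        refine zpowers_le.2 e (mem_zpowers_pow_iff.2 ?_)
        obtain ⟨m, hm⟩ := IsPGroup.iff_orderOf.1 hP s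
        rw [hm]
        exact (hp.out.coprime_iff_not_dvd.2 hk).symm.pow_right m
  exact (iterate_not_mem_lcs hG hc h2 hy hy' (p - 1) (by omega)).2 (h6 ▸ one_mem _)

end Cfsg.Agent.Reg
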